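import Groth.Agent.H10ZMT.Stein
import Groth.Agent.H9Hens.FinitePartScheme
import Groth.Agent.H17.Reduced
import Groth.Agent.LeadChow.Dense

/-!
# The proper part of a scheme over a Henselian local ring
-/

set_option autoImplicit false
set_option backward.isDefEq.respectTransparency false
set_option linter.style.haveILetI false

universe u

open CategoryTheory Limits AlgebraicGeometry IsLocalRing TopologicalSpace Topology

namespace Groth.Agent.H06Proper

variable {R : Type u} [CommRing R]

/-- Clopen subsets of the closed fibre of a proper scheme over a Henselian local ring lift. -/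
theorem exists_clopen_lift [IsNoetherianRing R] [HenselianLocalRing R] {N : Scheme.{u}}
    (p : N ⟶ Spec (CommRingCat.of R)) [IsProper p] (C : Set N) (hC0 : C ⊆ p ⁻¹' {closedPoint R})
    (hC : IsClosed C) (hC' : IsClosed (p ⁻¹' {closedPoint R} \ C)) :
    ∃ W : Set N, IsClopen W ∧ W ∩ p ⁻¹' {closedPoint R} = C := by
  let q := p.toNormalization
  let π := p.fromNormalization
  haveI hfin : IsFinite π := Groth.Agent.S1297.result p
  haveI : GeometricallyConnected q := H10ZMT.geometricallyConnected_toNormalization p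
  haveI : IsProper (q ≫ π) := by rw [p.toNormalization_fromNormalization]; infer_instance
  haveI : IsProper q := IsProper.of_comp q π
  have hq : ∀ x, π (q x) = p x := fun x => by
    rw [← Scheme.Hom.comp_apply, p.toNormalization_fromNormalization]
  let D := q '' (p ⁻¹' {closedPoint R} \ C)
  have hD : IsClosed D := q.isClosedMap _ hC'
  let U : p.normalization.Opens := ⟨Dᶜ, hD.isOpen_compl⟩
  have hdis : ∀ c ∈ C, q c ∉ D := by
    rintro c hc ⟨d, hd, hde⟩
    have hconn := (q.isConnected_preimage_singleton (q c)).isPreconnected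
    have hsub : q ⁻¹' {q c} ⊆ C ∪ (p ⁻¹' {closedPoint R} \ C) := by
      intro x hx
      have h0 : p x = closedPoint R := by
        rw [← hq x, show q x = q c from hx, hq c]; exact hC0 hc
      by_cases hxC : x ∈ C
      · exact Or.inl hxC
      · exact Or.inr ⟨h0, hxC⟩
    obtain ⟨x, -, hxC, hxC'⟩ := isPreconnected_closed_iff.1 hconn C _ hC hC' hsub
      ⟨c, rfl, hc⟩ ⟨d, hde, hd⟩
    exact hxC'.2 hxC
  have hkey : {z : p.normalization | z ∈ U ∧ π z = closedPoint R} = q '' C := by
    ext z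
    constructor
    · rintro ⟨hzU, hz⟩
      obtain ⟨x, rfl⟩ := q.surjective z
      rw [hq] at hz
      by_cases hxC : x ∈ C
      · exact ⟨x, hxC, rfl⟩
      · exact absurd ⟨x, ⟨hz, hxC⟩, rfl⟩ hzU
    · rintro ⟨c, hc, rfl⟩
      exact ⟨hdis c hc, (hq c).trans (hC0 hc)⟩
  obtain ⟨W, hWc, hWU, hW⟩ := H9Hens.exists_clopen_subset_open π U (hkey ▸ q.isClosedMap _ hC)
  refine ⟨q ⁻¹' W, ⟨hWc.preimage q.continuous, W.2.preimage q.continuous⟩, Set.ext fun x => ⟨?_, ?_⟩⟩
  · rintro ⟨hx, hx0⟩
    by_contra hxC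
    exact hWU hx ⟨x, ⟨hx0, hxC⟩, rfl⟩
  · intro hx
    exact ⟨hW _ (hdis x hx) ((hq x).trans (hC0 hx)), hC0 hx⟩

instance isClosedImmersion_fromSpecResidueField_closedPoint [IsLocalRing R] :
    IsClosedImmersion ((Spec (CommRingCat.of R)).fromSpecResidueField (closedPoint R)) :=
  .of_isPreimmersion _ (by
    rw [Scheme.range_fromSpecResidueField]
    exact isClosed_singleton_closedPoint R)

/-- If the closed fibre is proper, it is contained in a clopen subset all whose points specialise to it. -/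
theorem exists_clopen_properPart [IsNoetherianRing R] [HenselianLocalRing R] {X : Scheme.{u}}
    (h : X ⟶ Spec (CommRingCat.of R)) [IsSeparated h] [LocallyOfFiniteType h] [QuasiCompact h]
    (h0 : IsProper (h.fiberToSpecResidueField (closedPoint R))) :
    ∃ W : Set X, IsClopen W ∧ h ⁻¹' {closedPoint R} ⊆ W ∧
      ∀ w ∈ W, ∃ z, w ⤳ z ∧ h z = closedPoint R := by
  haveI : IsNoetherian (Spec (CommRingCat.of R)) := inferInstance
  haveI : AlgebraicGeometry.IsNoetherian X := LeadChow.isNoetherian_source h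
  obtain ⟨N, X', π, j, hj, hjS, hπ, -, -, hsurj, -, -, -⟩ :=
    LeadChow.exists_chow_dense h NoetherianSpace.finite_irreducibleComponents
  let t := CohB1.ProjSpaceOver.toBase N (Spec (CommRingCat.of R))
  have htj : ∀ a, t (j a) = h (π a) := fun a => by
    rw [← Scheme.Hom.comp_apply, hjS, Scheme.Hom.comp_apply]
  let c := pullback.fst π (h.fiberι (closedPoint R)) ≫ j
  haveI : IsProper (c ≫ t) := by
    have e : c ≫ t = pullback.snd π (h.fiberι (closedPoint R)) ≫ h.fiberToSpecResidueField (closedPoint R) ≫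
        (Spec (CommRingCat.of R)).fromSpecResidueField (closedPoint R) := by
      simp only [c, t, Category.assoc, hjS]
      rw [pullback.condition_assoc]
      congr 1
      exact pullback.condition
    rw [e]
    haveI := h0
    infer_instance
  haveI : IsProper c := IsProper.of_comp c t
  let D0 := Set.range c
  have hD0 : IsClosed D0 := c.isClosedMap.isClosed_range
  have hD0' : D0 = j '' ((π ≫ h) ⁻¹' {closedPoint R}) := by
    show Set.range c = _
    rw [Scheme.Hom.comp_base, TopCat.coe_comp, Set.range_comp, Scheme.Pullback.range_fst,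
      Scheme.Hom.range_fiberι]
    rfl
  let Zc : Closeds (CohB1.ProjSpaceOver N (Spec (CommRingCat.of R))) := ⟨closure (Set.range j), isClosed_closure⟩
  let i := (Scheme.IdealSheafData.vanishingIdeal Zc).subschemeι
  have hi : Set.range i = closure (Set.range j) := H17.range_vanishingIdeal_subschemeι _
  have hB : IsClosed (closure (Set.range j) \ Set.range j) := by
    have : closure (Set.range j) \ Set.range j = (coborder (Set.range j))ᶜ := by
      simp [coborder, Set.sdiff_eq]
    rw [this]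
    exact j.isLocallyClosed_range.isOpen_coborder.isClosed_compl
  have hspec : (i ≫ t) ⁻¹' {closedPoint R} \ i ⁻¹' D0 =
      i ⁻¹' ((closure (Set.range j) \ Set.range j) ∩ t ⁻¹' {closedPoint R}) := by
    ext a
    constructor
    · rintro ⟨ha, hna⟩
      refine ⟨⟨hi.le ⟨a, rfl⟩, ?_⟩, ha⟩
      rintro ⟨b, hb⟩
      refine hna ?_
      show i a ∈ D0
      rw [hD0']
      refine ⟨b, ?_, hb⟩
      show (π ≫ h) b = closedPoint R
      rw [← hjS, Scheme.Hom.comp_apply, hb]
      exact ha
    · rintro ⟨⟨-, hna⟩, ha⟩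
      refine ⟨ha, fun hD => hna ?_⟩
      have : i a ∈ D0 := hD
      rw [hD0'] at this
      obtain ⟨b, -, hb⟩ := this
      exact ⟨b, hb⟩
  obtain ⟨W', hW', hW'0⟩ := exists_clopen_lift (i ≫ t) (i ⁻¹' D0) (fun a ha => by
      have : i a ∈ D0 := ha
      rw [hD0'] at this
      obtain ⟨b, hb, hba⟩ := this
      show (i ≫ t) a = closedPoint R
      rw [Scheme.Hom.comp_apply, ← hba, htj, ← Scheme.Hom.comp_apply]
      exact hb) (hD0.preimage i.continuous)
    (hspec ▸ (hB.inter ((isClosed_singleton_closedPoint R).preimage t.continuous)).preimage i.continuous)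
  let W1 := i '' W'
  let W2 := i '' W'ᶜ
  have hW1 : IsClosed W1 := i.isClosedEmbedding.isClosedMap _ hW'.1
  have hW2 : IsClosed W2 := i.isClosedEmbedding.isClosedMap _ hW'.compl.1
  have hmem : ∀ a : X', j a ∈ W1 ∨ j a ∈ W2 := fun a => by
    obtain ⟨b, hb⟩ := hi.ge (subset_closure ⟨a, rfl⟩)
    by_cases hbW : b ∈ W'
    exacts [Or.inl ⟨b, hbW, hb⟩, Or.inr ⟨b, hbW, hb⟩]
  -- points of the first part specialise to the closed fibre
  have hsp : ∀ w ∈ W1, ∃ a, w ⤳ j a ∧ h (π a) = closedPoint R := by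
    intro w hw
    obtain ⟨z, hwz, hz⟩ := H9Hens.exists_specializes_closedPoint t w
    obtain ⟨b, hb, rfl⟩ := hwz.mem_closed hW1 hw
    have : b ∈ W' ∩ (i ≫ t) ⁻¹' {closedPoint R} := ⟨hb, hz⟩
    rw [hW'0] at this
    have h1 : i b ∈ D0 := this
    rw [hD0'] at h1
    obtain ⟨a, ha, hab⟩ := h1
    exact ⟨a, hab.symm ▸ hwz, ha⟩
  have hspecW : ∀ a, h (π a) = closedPoint R → j a ∈ W1 := by
    intro a ha
    obtain ⟨b, hb⟩ := hi.ge (subset_closure ⟨a, rfl⟩)
    have : b ∈ i ⁻¹' D0 := by
      show i b ∈ D0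
      rw [hD0', hb]
      exact ⟨a, ha, rfl⟩
    rw [← hW'0] at this
    exact ⟨b, this.1, hb⟩
  have hdisj : ∀ a, ¬ (j a ∈ W1 ∧ j a ∈ W2) := by
    rintro a ⟨⟨b, hb, hba⟩, ⟨b', hb', hba'⟩⟩
    exact hb' (i.isEmbedding.injective (hba'.trans hba.symm) ▸ hb)
  let W := π '' (j ⁻¹' W1)
  let Wc := π '' (j ⁻¹' W2)
  have hWcl : IsClosed W := π.isClosedMap _ (hW1.preimage j.continuous)
  have hWccl : IsClosed Wc := π.isClosedMap _ (hW2.preimage j.continuous)
  have hspec' : ∀ x ∈ W, ∃ z, x ⤳ z ∧ h z = closedPoint R := by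
    rintro _ ⟨a, ha, rfl⟩
    obtain ⟨a', ha', ha''⟩ := hsp _ ha
    exact ⟨π a', (j.isEmbedding.isInducing.specializes_iff.1 ha').map π.continuous, ha''⟩
  have hWeq : W = Wcᶜ := by
    refine Set.Subset.antisymm ?_ ?_
    · intro x hx hxc
      obtain ⟨z, hxz, hz⟩ := hspec' x hx
      obtain ⟨a, ha, haz⟩ := hxz.mem_closed hWccl hxc
      exact hdisj a ⟨hspecW a (haz.symm ▸ hz), ha⟩
    · intro x hx
      obtain ⟨a, rfl⟩ := π.surjective x
      rcases hmem a with ha | ha
      exacts [⟨a, ha, rfl⟩, absurd ⟨a, ha, rfl⟩ hx]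
  refine ⟨W, ⟨hWcl, hWeq ▸ hWccl.isOpen_compl⟩, fun x hx => ?_, hspec'⟩
  obtain ⟨a, rfl⟩ := π.surjective x
  exact ⟨a, hspecW a hx, rfl⟩

end Groth.Agent.H06Proper
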