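import Groth.Agent.H06Proper.DvrPoint
import Groth.Agent.H06Proper.HenselianProperPart
import Groth.Agent.H11Val.Section
import Groth.Agent.H28NT.DvrExcellent
import Groth.Agent.H9Hens.Local

/-!
# Submersive morphisms with connected fibres and one proper fibre
-/

set_option autoImplicit false
set_option backward.isDefEq.respectTransparency false
set_option linter.style.haveILetI false

universe u

open CategoryTheory Limits AlgebraicGeometry IsLocalRing TopologicalSpace Topology

namespace Groth.Agent.H06Proper

/-- A proper fibre stays proper after base change. -/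
theorem isProper_fiberToSpecResidueField_snd {X Y Y' : Scheme.{u}} (f : X ⟶ Y) (g : Y' ⟶ Y) (y' : Y')
    (h : IsProper (f.fiberToSpecResidueField (g y'))) :
    IsProper ((pullback.snd f g).fiberToSpecResidueField y') :=
  MorphismProperty.of_isPullback (isPullback_fiberToSpecResidueField_of_isPullback (IsPullback.of_hasPullback f g) y') h

/-- A submersive family over a Henselian DVR with connected generic fibre and proper closed fibre:
every point of the generic fibre specialises to the closed fibre. -/
theorem exists_specializes_of_submersive {B : Type u} [CommRing B] [IsDomain B] [IsDiscreteValuationRing B]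
    [HenselianLocalRing B] {X : Scheme.{u}} (h : X ⟶ Spec (CommRingCat.of B)) [IsSeparated h]
    [LocallyOfFiniteType h] [QuasiCompact h] (hq : IsQuotientMap h)
    (hc : _root_.IsPreconnected (h ⁻¹' {genericPoint (Spec (CommRingCat.of B))}))
    (h0 : IsProper (h.fiberToSpecResidueField (closedPoint B))) (x : X)
    (hx : h x = genericPoint (Spec (CommRingCat.of B))) :
    ∃ z, x ⤳ z ∧ h z = closedPoint B := by
  obtain ⟨W, hW, hW0, hsp⟩ := exists_clopen_properPart h h0
  by_contra hne
  have hxW : x ∉ W := fun hm => hne (hsp x hm)
  have htwo : ∀ p : Spec (CommRingCat.of B), p = genericPoint _ ∨ p = closedPoint B := by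
    intro p
    rw [genericPoint_eq_bot_of_affine]
    by_cases hp : p.asIdeal = ⊥
    · exact Or.inl (PrimeSpectrum.ext hp)
    · exact Or.inr (PrimeSpectrum.ext (IsLocalRing.eq_maximalIdeal (p.2.isMaximal hp)))
  have hWeq : W = h ⁻¹' {closedPoint B} := by
    refine Set.Subset.antisymm (fun w hw => ?_) hW0
    rcases htwo (h w) with hg | hg
    · exact absurd (hc.subset_isClopen hW ⟨w, hg, hw⟩ hx) hxW
    · exact hg
  have hop : IsOpen ({closedPoint B} : Set (Spec (CommRingCat.of B))) :=
    hq.isOpen_preimage.1 (hWeq ▸ hW.2)
  have hgen : genericPoint (Spec (CommRingCat.of B)) = closedPoint B :=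
    (genericPoint_specializes (closedPoint B : Spec (CommRingCat.of B))).mem_open hop rfl
  exact hxW (hW0 (hx.trans hgen))

/-- Extension of rational points for a universally submersive morphism with geometrically connected
fibres, one of which is proper. -/
theorem dvrLiftsAt_of_submersive {X Y : Scheme.{u}} (f : X ⟶ Y) [IsSeparated f] [LocallyOfFiniteType f]
    [QuasiCompact f] (hsub : MorphismProperty.universally (topologically fun g => IsQuotientMap g) f)
    [GeometricallyConnected f] (y : Y) (hy : IsProper (f.fiberToSpecResidueField y)) :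
    DvrLiftsAt f y := by
  intro A _ _ _ x0 g hg _ hxg
  let B := EGA4.Cpl A
  obtain ⟨_, _⟩ := H28NT.isDiscreteValuationRing_cpl A
  haveI := H05EGA4.isNoetherianRing_cpl A
  haveI := H05EGA4.faithfullyFlat_cpl A
  haveI : HenselianRing B (maximalIdeal B) := inferInstance
  haveI : HenselianLocalRing B := H9Hens.henselianLocalRing_of_henselianRing
  let q : Spec (CommRingCat.of B) ⟶ Spec (CommRingCat.of A) := Spec.map (CommRingCat.ofHom (algebraMap A B))
  have hqc : q (closedPoint B) = closedPoint A := by
    refine PrimeSpectrum.ext ?_
    show (maximalIdeal B).comap (algebraMap A B) = maximalIdeal A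
    haveI : IsLocalHom (algebraMap A B) := inferInstance
    exact IsLocalRing.maximalIdeal_comap _
  let φ : FractionRing A →+* FractionRing B :=
    IsLocalization.map (FractionRing B) (algebraMap A B)
      (nonZeroDivisors_le_comap_nonZeroDivisors_of_injective _ (FaithfulSMul.algebraMap_injective A B))
  have hφ : (algebraMap B (FractionRing B)).comp (algebraMap A B) = φ.comp (algebraMap A (FractionRing A)) :=
    (IsLocalization.map_comp _).symm
  let alg := Spec.map (CommRingCat.ofHom (algebraMap A (FractionRing A)))
  let alg' := Spec.map (CommRingCat.ofHom (algebraMap B (FractionRing B)))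
  let qK := Spec.map (CommRingCat.ofHom φ)
  have hq' : alg' ≫ q = qK ≫ alg := by
    simp only [alg, alg', qK, q, ← Spec.map_comp]
    exact congrArg (fun r => Spec.map (CommRingCat.ofHom r)) hφ
  let h := pullback.snd f (q ≫ g)
  have hqm : IsQuotientMap h :=
    hsub _ _ _ (IsPullback.of_hasPullback f (q ≫ g)).flip
  have hprop : IsProper (h.fiberToSpecResidueField (closedPoint B)) := by
    apply isProper_fiberToSpecResidueField_snd f (q ≫ g)
    rw [Scheme.Hom.comp_apply, hqc, hg]
    exact hy
  let σ' : Spec (CommRingCat.of (FractionRing B)) ⟶ pullback f (q ≫ g) :=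
    pullback.lift (qK ≫ x0) alg' (by rw [Category.assoc, hxg, reassoc_of% hq'])
  have hσ' : h (σ' (closedPoint (FractionRing B))) = genericPoint (Spec (CommRingCat.of B)) := by
    rw [← Scheme.Hom.comp_apply, pullback.lift_snd]
    exact specMap_fractionRing_closedPoint B
  obtain ⟨z, hz, hz0⟩ := exists_specializes_of_submersive h hqm
    (h.isConnected_preimage_singleton _).isPreconnected hprop _ hσ'
  let m : pullback f (q ≫ g) ⟶ pullback f g :=
    pullback.lift (pullback.fst _ _) (h ≫ q) (by rw [pullback.condition, Category.assoc])
  let σ : Spec (CommRingCat.of (FractionRing A)) ⟶ pullback f g := pullback.lift x0 alg hxg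
  have hm : σ' ≫ m = qK ≫ σ := pullback.hom_ext
    (by simp only [σ', σ, m, Category.assoc, pullback.lift_fst])
    (by simp only [σ', σ, m, h, Category.assoc, pullback.lift_snd, pullback.lift_snd_assoc, hq'])
  obtain ⟨s, hs, hsx⟩ := H11Val.exists_section_of_specializes (pullback.snd f g) σ (pullback.lift_snd _ _ _)
    (m z) (by
      have e : σ (closedPoint (FractionRing A)) = m (σ' (closedPoint (FractionRing B))) := by
        rw [← Scheme.Hom.comp_apply, hm, Scheme.Hom.comp_apply]
        exact congrArg σ (Subsingleton.elim (α := PrimeSpectrum (FractionRing A)) _ _)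
      exact e ▸ hz.map m.continuous)
    (by rw [← Scheme.Hom.comp_apply, pullback.lift_snd, Scheme.Hom.comp_apply, hz0, hqc])
  refine ⟨s ≫ pullback.fst f g, ?_, ?_⟩
  · rw [Category.assoc, pullback.condition, reassoc_of% hs]
  · rw [reassoc_of% hsx, pullback.lift_fst]

end Groth.Agent.H06Proper
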