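import Groth.Agent.H06Proper.ClosureAt
import Groth.Agent.H06Proper.SubmersiveDvr
import Groth.Agent.H28Top.Noeth
import Groth.Agent.H28Top.Spectral

/-!
# Closedness and properness at a point of a family of connected components of the fibres
-/

set_option autoImplicit false
set_option backward.isDefEq.respectTransparency false
set_option linter.style.haveILetI false

universe u

open CategoryTheory Limits AlgebraicGeometry IsLocalRing TopologicalSpace Topology

namespace Groth.Agent.H06Proper

variable {X Y : Scheme.{u}}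

/-- A rational point whose specialisation lies in the closed fibre is the generic point of a section
through that specialisation. -/
theorem exists_section_through {A : Type u} [CommRing A] [IsDomain A] [ValuationRing A] {K : Type u} [Field K]
    [Algebra A K] [IsFractionRing A K] (f : X ⟶ Spec (CommRingCat.of A))
    (x : Spec (CommRingCat.of K) ⟶ X) (hx : x ≫ f = Spec.map (CommRingCat.ofHom (algebraMap A K)))
    (x' : X) (h₁ : x (closedPoint K) ⤳ x') (h₂ : f x' = closedPoint A) :
    ∃ s : Spec (CommRingCat.of A) ⟶ X, s ≫ f = 𝟙 _ ∧ Spec.map (CommRingCat.ofHom (algebraMap A K)) ≫ s = x ∧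
      s (closedPoint A) = x' := by
  let : Field (CommRingCat.of K) := ‹_›
  let α : CommRingCat.of A ⟶ X.presheaf.stalk x' := Spec.preimage (X.fromSpecStalk x' ≫ f)
  have hα : Spec.map α = X.fromSpecStalk x' ≫ f := Spec.map_preimage _
  have hαc : Spec.map α (closedPoint (X.presheaf.stalk x')) = closedPoint A := by
    rw [hα, Scheme.Hom.comp_apply, Scheme.fromSpecStalk_closedPoint, h₂]
  haveI hαl : IsLocalHom α.hom := ⟨fun a ha => by
    by_contra hn
    have : a ∈ (Spec.map α (closedPoint (X.presheaf.stalk x'))).asIdeal := by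
      rw [hαc]
      exact (mem_maximalIdeal _).2 hn
    exact (mem_maximalIdeal _).1 this ha⟩
  let β := X.presheaf.stalkSpecializes h₁ ≫ Scheme.stalkClosedPointTo x
  have hβ : Spec.map β ≫ X.fromSpecStalk x' = x := by
    rw [Spec.map_comp, Category.assoc, Scheme.SpecMap_stalkSpecializes_fromSpecStalk,
      Scheme.Spec_stalkClosedPointTo_fromSpecStalk]
  have hαβ : α ≫ β = CommRingCat.ofHom (algebraMap A K) := by
    rw [← Spec.map_inj, Spec.map_comp, hα, ← Category.assoc, hβ, hx]
  have hbij := bijective_rangeRestrict_comp_of_valuationRing (R := A) (K := K) α.hom β.hom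
    (CommRingCat.hom_ext_iff.mp hαβ)
  let φ : X.presheaf.stalk x' ⟶ CommRingCat.of A := CommRingCat.ofHom <|
    (RingEquiv.ofBijective _ hbij).symm.toRingHom.comp β.hom.rangeRestrict
  have hαφ : α ≫ φ = 𝟙 _ := by ext a; exact (RingEquiv.ofBijective _ hbij).symm_apply_apply a
  have hφβ : φ ≫ CommRingCat.ofHom (algebraMap A K) = β :=
    hαβ ▸ CommRingCat.hom_ext (RingHom.ext fun a ↦ congr_arg Subtype.val
      ((RingEquiv.ofBijective _ hbij).apply_symm_apply (β.hom.rangeRestrict a)))
  haveI : IsLocalHom φ.hom := by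
    refine ⟨fun r hr => ?_⟩
    by_contra hn
    have h1 : β (r - α (φ r)) = 0 := by
      have e1 : β r = algebraMap A K (φ r) := (congrArg (fun t => t.hom r) hφβ).symm
      have e2 : β (α (φ r)) = algebraMap A K (φ r) := congrArg (fun t => t.hom (φ r)) hαβ
      rw [map_sub, e1, e2, sub_self]
    have hu : IsUnit (r - α (φ r)) := by
      by_contra hnu
      have hm : α (φ r) ∈ maximalIdeal (X.presheaf.stalk x') := by
        have := Ideal.sub_mem _ ((mem_maximalIdeal _).2 hn) ((mem_maximalIdeal _).2 hnu)
        simpa using this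
      exact (mem_maximalIdeal _).1 hm (hr.map α.hom)
    exact (hu.map β.hom).ne_zero h1
  refine ⟨Spec.map φ ≫ X.fromSpecStalk x', ?_, ?_, ?_⟩
  · rw [Category.assoc, ← hα, ← Spec.map_comp, hαφ, Spec.map_id]
  · rw [← Spec.map_comp_assoc, hφβ, hβ]
  · rw [Scheme.Hom.comp_apply, show Spec.map φ (closedPoint A) = closedPoint (X.presheaf.stalk x') from
      comap_closedPoint φ.hom, Scheme.fromSpecStalk_closedPoint]

/-- Properness of the fibre of an open subscheme, from properness of the trace. -/
theorem isProper_fibre_restrict (h : X ⟶ Y) (c : Y) (O : X.Opens) (V : (h.fiber c).Opens)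
    (hV : V = (h.fiberι c) ⁻¹ᵁ O) (hp : IsProper (V.ι ≫ h.fiberToSpecResidueField c)) :
    IsProper ((O.ι ≫ h).fiberToSpecResidueField c) := by
  subst hV
  let m : (O.ι ≫ h).fiber c ⟶ h.fiber c :=
    pullback.lift ((O.ι ≫ h).fiberι c ≫ O.ι) ((O.ι ≫ h).fiberToSpecResidueField c)
      (by rw [Category.assoc]; exact pullback.condition)
  have hm2 : m ≫ h.fiberToSpecResidueField c = (O.ι ≫ h).fiberToSpecResidueField c := pullback.lift_snd _ _ _
  have sq : IsPullback ((O.ι ≫ h).fiberι c) m O.ι (h.fiberι c) := by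
    refine IsPullback.of_bot ?_ (pullback.lift_fst _ _ _).symm (IsPullback.of_hasPullback h (Y.fromSpecResidueField c))
    rw [show m ≫ pullback.snd h _ = (O.ι ≫ h).fiberToSpecResidueField c from hm2]
    exact IsPullback.of_hasPullback _ _
  have hr := sq.flip.isoPullback
  haveI : IsOpenImmersion m := MorphismProperty.of_isPullback sq (inferInstance : IsOpenImmersion O.ι)
  have hrange : Set.range m = Set.range ((h.fiberι c) ⁻¹ᵁ O).ι := by
    rw [Scheme.Opens.range_ι]
    refine Set.Subset.antisymm ?_ ?_
    · rintro _ ⟨a, rfl⟩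
      show h.fiberι c (m a) ∈ O
      rw [← Scheme.Hom.comp_apply, show m ≫ h.fiberι c = _ from pullback.lift_fst _ _ _, Scheme.Hom.comp_apply]
      exact ((O.ι ≫ h).fiberι c a).2
    · intro a ha
      obtain ⟨b, hb1, hb2⟩ := Scheme.exists_preimage_of_isPullback sq ⟨h.fiberι c a, ha⟩ a rfl
      exact ⟨b, hb2⟩
  rw [← hm2, ← IsOpenImmersion.isoOfRangeEq_hom_fac m ((h.fiberι c) ⁻¹ᵁ O).ι hrange, Category.assoc]
  haveI := hp
  infer_instance

theorem isLocallyConstructible_closure_sdiff [IsLocallyNoetherian X] {Z : Set X} (hZ : IsLocallyConstructible Z) :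
    IsLocallyConstructible (closure Z \ Z) := by
  intro x
  obtain ⟨O, hO, hxO, -⟩ := exists_isAffineOpen_mem_and_subset (x := x) (U := ⊤) trivial
  haveI : IsAffine O.toScheme := hO
  haveI : IsLocallyNoetherian O.toScheme := LocallyOfFiniteType.isLocallyNoetherian O.ι
  haveI : CompactSpace O.toScheme := isCompact_iff_compactSpace.mp hO.isCompact
  haveI : AlgebraicGeometry.IsNoetherian O.toScheme := { }
  refine ⟨(O : Set X), O.2.mem_nhds hxO, O.2, ?_⟩
  have h1 : IsConstructible (O.ι ⁻¹' closure Z) :=
    H28Top.isConstructible_of_isClosed (isClosed_closure.preimage O.ι.continuous)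
  have h2 : IsConstructible (O.ι ⁻¹' Z) :=
    (hZ.preimage_of_isOpenEmbedding O.ι.isOpenEmbedding).isConstructible
  exact h1.sdiff h2

theorem exists_specializes_of_mem_closure' {E : Set X} (hE : IsLocallyConstructible E) {x : X}
    (hx : x ∈ closure E) : ∃ e ∈ E, e ⤳ x := by
  obtain ⟨O, hO, hxO, -⟩ := exists_isAffineOpen_mem_and_subset (x := x) (U := ⊤) trivial
  haveI : SpectralSpace ↥(Spec Γ(X, O)) := inferInstanceAs (SpectralSpace (PrimeSpectrum Γ(X, O)))
  have h1 : IsConstructible (hO.fromSpec ⁻¹' E) :=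
    (hE.preimage_of_isOpenEmbedding hO.fromSpec.isOpenEmbedding).isConstructible
  rw [← SetLike.mem_coe, ← hO.range_fromSpec] at hxO
  obtain ⟨p, rfl⟩ := hxO
  have h2 : p ∈ closure (hO.fromSpec ⁻¹' E) := by
    rw [← hO.fromSpec.isOpenEmbedding.isOpenMap.preimage_closure_eq_closure_preimage hO.fromSpec.continuous]
    exact hx
  obtain ⟨e, he, hsp⟩ := H28Top.exists_specializes_of_mem_closure
    (H28Top.isClosed_constr_of_isConstructible h1) h2
  exact ⟨hO.fromSpec e, he, hsp.map hO.fromSpec.continuous⟩

/-- Extension of a generic rational point of `Z` to a section with closed point in `Z`. -/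
theorem exists_lift_in_connectedPart [IsLocallyNoetherian Y] (y : Y) (f : X ⟶ Y) [IsSeparated f]
    [LocallyOfFiniteType f] [QuasiCompact f] (Z : Set X)
    (h1 : ∀ y' : Y, y' ⤳ y → (∃ x ∈ Z, f x = y' ∧ Z ∩ f ⁻¹' {y'} = connectedComponentIn (f ⁻¹' {y'}) x) ∧
      ∀ (K : Type u) [Field K] [Algebra (IsLocalRing.ResidueField (Y.presheaf.stalk y')) K],
        _root_.IsPreconnected ((FBase.bcπ (f.fiberToSpecResidueField y') K ≫ f.fiberι y').base ⁻¹' Z))
    (hop : IsOpen ((f.fiberι y).base ⁻¹' Z))
    (h2 : IsProper (Scheme.Opens.ι (⟨(f.fiberι y).base ⁻¹' Z, hop⟩ : (f.fiber y).Opens) ≫ f.fiberToSpecResidueField y))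
    (h3 : ∀ (Y' : Scheme.{u}) (h : Y' ⟶ Y) (E : Set Y'), E ⊆ h.base ⁻¹' (f.base '' Z) →
      (∃ W : Set ↥(pullback f h), IsOpen W ∧
        W ∩ (pullback.fst f h).base ⁻¹' Z = (pullback.snd f h).base ⁻¹' E ∩ (pullback.fst f h).base ⁻¹' Z) →
      ∃ V : Set Y', IsOpen V ∧ V ∩ h.base ⁻¹' (f.base '' Z) = E)
    (A : Type u) [CommRing A] [IsDomain A] [IsDiscreteValuationRing A]
    (x0 : Spec (CommRingCat.of (FractionRing A)) ⟶ X) (g : Spec (CommRingCat.of A) ⟶ Y)
    (hg : g (closedPoint A) = y) (hx0 : x0 (closedPoint (FractionRing A)) ∈ Z)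
    (hxg : x0 ≫ f = Spec.map (CommRingCat.ofHom (algebraMap A (FractionRing A))) ≫ g) :
    ∃ l : Spec (CommRingCat.of A) ⟶ X, l ≫ f = g ∧
      Spec.map (CommRingCat.ofHom (algebraMap A (FractionRing A))) ≫ l = x0 ∧ l (closedPoint A) ∈ Z := by
  let B := EGA4.Cpl A
  obtain ⟨_, _⟩ := H28NT.isDiscreteValuationRing_cpl A
  haveI := H05EGA4.isNoetherianRing_cpl A
  haveI := H05EGA4.faithfullyFlat_cpl A
  haveI : HenselianRing B (maximalIdeal B) := inferInstance
  haveI : HenselianLocalRing B := H9Hens.henselianLocalRing_of_henselianRing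
  let q : Spec (CommRingCat.of B) ⟶ Spec (CommRingCat.of A) := Spec.map (CommRingCat.ofHom (algebraMap A B))
  have hqc : q (closedPoint B) = closedPoint A := by
    refine PrimeSpectrum.ext ?_
    show (maximalIdeal B).comap (algebraMap A B) = maximalIdeal A
    haveI : IsLocalHom (algebraMap A B) := inferInstance
    exact IsLocalRing.maximalIdeal_comap _
  let φ : FractionRing A →+* FractionRing B :=
    IsLocalization.map (FractionRing B) (algebraMap A B)
      (nonZeroDivisors_le_comap_nonZeroDivisors_of_injective _ (FaithfulSMul.algebraMap_injective A B))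
  have hφ : (algebraMap B (FractionRing B)).comp (algebraMap A B) = φ.comp (algebraMap A (FractionRing A)) :=
    (IsLocalization.map_comp _).symm
  let alg := Spec.map (CommRingCat.ofHom (algebraMap A (FractionRing A)))
  let alg' := Spec.map (CommRingCat.ofHom (algebraMap B (FractionRing B)))
  let qK := Spec.map (CommRingCat.ofHom φ)
  have hq' : alg' ≫ q = qK ≫ alg := by
    simp only [alg, alg', qK, q, ← Spec.map_comp]
    exact congrArg (fun r => Spec.map (CommRingCat.ofHom r)) hφ
  let g' := q ≫ g
  have hg' : g' (closedPoint B) = y := by rw [Scheme.Hom.comp_apply, hqc, hg]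
  let h := pullback.snd f g'
  let ZB : Set ↥(pullback f g') := pullback.fst f g' ⁻¹' Z
  let σ' : Spec (CommRingCat.of (FractionRing B)) ⟶ pullback f g' :=
    pullback.lift (qK ≫ x0) alg' (by rw [Category.assoc, hxg, reassoc_of% hq'])
  let x' := σ' (closedPoint (FractionRing B))
  have hx'Z : x' ∈ ZB := by
    show pullback.fst f g' (σ' (closedPoint (FractionRing B))) ∈ Z
    rw [← Scheme.Hom.comp_apply, pullback.lift_fst, Scheme.Hom.comp_apply]
    exact (congrArg x0 (Subsingleton.elim (α := PrimeSpectrum (FractionRing A)) _ _)).symm ▸ hx0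
  have hx' : h x' = genericPoint (Spec (CommRingCat.of B)) := by
    rw [← Scheme.Hom.comp_apply, pullback.lift_snd]
    exact specMap_fractionRing_closedPoint B
  -- the closed fibre of `Z`
  let c : (h.fiber (closedPoint B)) ⟶ f.fiber (g' (closedPoint B)) :=
    pullback.map _ _ _ _ (pullback.fst f g') (Spec.map (g'.residueFieldMap (closedPoint B))) g'
      pullback.condition.symm (by simp)
  have sq : IsPullback c (h.fiberToSpecResidueField (closedPoint B))
      (f.fiberToSpecResidueField (g' (closedPoint B))) (Spec.map (g'.residueFieldMap (closedPoint B))) :=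
    isPullback_fiberToSpecResidueField_of_isPullback (IsPullback.of_hasPullback f g') _
  have hc : c ≫ f.fiberι (g' (closedPoint B)) = h.fiberι (closedPoint B) ≫ pullback.fst f g' :=
    pullback.lift_fst _ _ _
  obtain ⟨hop', h2'⟩ : ∃ hop' : IsOpen ((f.fiberι (g' (closedPoint B))) ⁻¹' Z),
      IsProper (Scheme.Opens.ι (⟨(f.fiberι (g' (closedPoint B))) ⁻¹' Z, hop'⟩ : (f.fiber _).Opens) ≫
        f.fiberToSpecResidueField _) := by
    rw [hg']
    exact ⟨hop, h2⟩
  let V : (f.fiber (g' (closedPoint B))).Opens := ⟨_, hop'⟩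
  let O : (pullback f g').Opens := ⟨(h ⁻¹' {closedPoint B} \ ZB)ᶜ, by
    refine IsClosed.isOpen_compl (self := ?_)
    have e : h ⁻¹' {closedPoint B} \ ZB = h.fiberι (closedPoint B) '' (c ⁻¹' (V : Set _))ᶜ := by
      ext a
      constructor
      · rintro ⟨ha, haZ⟩
        obtain ⟨b, rfl⟩ := (h.range_fiberι (closedPoint B)).ge ha
        refine ⟨b, fun hb => haZ ?_, rfl⟩
        show pullback.fst f g' (h.fiberι _ b) ∈ Z
        rw [← Scheme.Hom.comp_apply, ← hc]
        exact hb
      · rintro ⟨b, hb, rfl⟩
        refine ⟨(h.range_fiberι (closedPoint B)).le ⟨b, rfl⟩, fun hZb => hb ?_⟩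
        show f.fiberι (g' (closedPoint B)) (c b) ∈ Z
        rw [← Scheme.Hom.comp_apply, hc]
        exact hZb
    rw [e]
    haveI : IsClosedImmersion (h.fiberι (closedPoint B)) :=
      MorphismProperty.pullback_fst _ _ inferInstance
    exact (h.fiberι (closedPoint B)).isClosedEmbedding.isClosedMap _ (((V.2.preimage c.continuous)).isClosed_compl)⟩
  have hO0 : ∀ a, h a = closedPoint B → (a ∈ O ↔ a ∈ ZB) := fun a ha =>
    ⟨fun hao => not_not.1 fun hn => hao ⟨ha, hn⟩, fun hZa hmem => hmem.2 hZa⟩
  have hZO : ZB ⊆ (O : Set ↥(pullback f g')) := fun a ha hmem => hmem.2 ha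
  have hp0 : IsProper ((O.ι ≫ h).fiberToSpecResidueField (closedPoint B)) := by
    refine isProper_fibre_restrict h (closedPoint B) O (c ⁻¹ᵁ V) (TopologicalSpace.Opens.ext (Set.ext fun b => ?_)) ?_
    · have hb : h (h.fiberι (closedPoint B) b) = closedPoint B := (h.range_fiberι (closedPoint B)).le ⟨b, rfl⟩
      show f.fiberι _ (c b) ∈ Z ↔ h.fiberι _ b ∈ O
      rw [hO0 _ hb, ← Scheme.Hom.comp_apply, hc]
      rfl
    · exact MorphismProperty.of_isPullback ((isPullback_morphismRestrict c V).paste_vert sq) h2'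
  haveI : IsNoetherian (Spec (CommRingCat.of B)) := inferInstance
  haveI : AlgebraicGeometry.IsNoetherian (pullback f g') := LeadChow.isNoetherian_source h
  haveI : QuasiCompact (O.ι ≫ h) := inferInstance
  obtain ⟨W, hW, hW0, hsp⟩ := exists_clopen_properPart (O.ι ≫ h) hp0
  -- the generic fibre of `Z` is preconnected
  have hgen : _root_.IsPreconnected (ZB ∩ h ⁻¹' {genericPoint (Spec (CommRingCat.of B))}) := by
    let b0 : Spec (CommRingCat.of (FractionRing B)) ⟶ Y := alg' ≫ g'
    let p : Spec (CommRingCat.of (FractionRing B)) := closedPoint (FractionRing B)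
    obtain ⟨y', hy', ψ, hψ⟩ : ∃ (y' : Y) (_ : y' ⤳ y) (ψ : Y.residueField y' ⟶ CommRingCat.of (FractionRing B)),
        b0 = Spec.map ψ ≫ Y.fromSpecResidueField y' :=
      ⟨b0 p, by
        rw [← hg', Scheme.Hom.comp_apply]
        exact (specializes_closedPoint _).map g'.continuous,
        _, (Scheme.descResidueField_stalkClosedPointTo_fromSpecResidueField (FractionRing B) Y b0).symm⟩
    letI : Algebra (IsLocalRing.ResidueField (Y.presheaf.stalk y')) (FractionRing B) := ψ.hom.toAlgebra
    have hpre := (h1 y' hy').2 (FractionRing B)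
    let π := FBase.bcπ (f.fiberToSpecResidueField y') (FractionRing B)
    let s2 : FBase.bc (f.fiberToSpecResidueField y') (FractionRing B) ⟶ Spec (CommRingCat.of (FractionRing B)) :=
      pullback.snd _ _
    let r : FBase.bc (f.fiberToSpecResidueField y') (FractionRing B) ⟶ pullback f g' :=
      pullback.lift (π ≫ f.fiberι y') (s2 ≫ alg') (by
        rw [Category.assoc, Category.assoc, Scheme.Hom.fiberι, pullback.condition]
        show _ = s2 ≫ b0
        rw [hψ]
        exact pullback.condition_assoc _)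
    have hrf : r ≫ pullback.fst f g' = π ≫ f.fiberι y' := pullback.lift_fst _ _ _
    have e : ZB ∩ h ⁻¹' {genericPoint (Spec (CommRingCat.of B))} = r '' ((π ≫ f.fiberι y').base ⁻¹' Z) := by
      ext a
      constructor
      · rintro ⟨haZ, hagen⟩
        let k := Spec.map (h.residueFieldMap a) ≫ (Spec (CommRingCat.of B)).fromSpecResidueField (h a)
        have hk : k (closedPoint _) ∈ Set.range alg' := by
          refine ⟨closedPoint _, ?_⟩
          rw [Scheme.Hom.comp_apply, Scheme.fromSpecResidueField_apply]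
          exact (specMap_fractionRing_closedPoint B).trans hagen.symm
        obtain ⟨e, he⟩ := H17.MonoField.exists_lift_of_mem_range alg' k hk
        let a1 : Spec (((pullback f g')).residueField a) ⟶ f.fiber y' :=
          pullback.lift ((pullback f g').fromSpecResidueField a ≫ pullback.fst f g') (e ≫ Spec.map ψ) (by
            rw [Category.assoc, pullback.condition, Category.assoc, ← hψ]
            show _ = e ≫ alg' ≫ g'
            rw [reassoc_of% he]
            simp only [k, Category.assoc, Scheme.Hom.SpecMap_residueFieldMap_fromSpecResidueField_assoc]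
            rfl)
        let a2 : Spec (((pullback f g')).residueField a) ⟶ FBase.bc (f.fiberToSpecResidueField y') (FractionRing B) :=
          pullback.lift a1 e (pullback.lift_snd _ _ _)
        have ha2 : a2 ≫ r = (pullback f g').fromSpecResidueField a := pullback.hom_ext
          (by rw [Category.assoc, hrf, ← Category.assoc, show a2 ≫ π = a1 from pullback.lift_fst _ _ _]
              exact pullback.lift_fst _ _ _)
          (by rw [Category.assoc, pullback.lift_snd, ← Category.assoc,
                show a2 ≫ s2 = e from pullback.lift_snd _ _ _, he]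
              exact Scheme.Hom.SpecMap_residueFieldMap_fromSpecResidueField h a)
        have hr2 : r (a2 (closedPoint _)) = a := by
          rw [← Scheme.Hom.comp_apply, ha2, Scheme.fromSpecResidueField_apply]
        refine ⟨a2 (closedPoint _), ?_, hr2⟩
        show (π ≫ f.fiberι y') (a2 (closedPoint _)) ∈ Z
        rw [← hrf, Scheme.Hom.comp_apply, hr2]
        exact haZ
      · rintro ⟨b, hb, rfl⟩
        refine ⟨?_, ?_⟩
        · show pullback.fst f g' (r b) ∈ Z
          rw [← Scheme.Hom.comp_apply, hrf]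
          exact hb
        · show h (r b) = _
          rw [← Scheme.Hom.comp_apply, pullback.lift_snd, Scheme.Hom.comp_apply]
          rw [Subsingleton.elim (α := PrimeSpectrum (FractionRing B)) (s2 b) (closedPoint _)]
          exact specMap_fractionRing_closedPoint B
    rw [e]
    exact hpre.image r r.continuous.continuousOn
  -- the point specialises into the closed fibre of `Z`
  have hxW : (⟨x', hZO hx'Z⟩ : O.toScheme) ∈ W := by
    by_contra hne
    have htwo : ∀ p : Spec (CommRingCat.of B), p = genericPoint _ ∨ p = closedPoint B := by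
      intro p
      rw [genericPoint_eq_bot_of_affine]
      by_cases hp : p.asIdeal = ⊥
      · exact Or.inl (PrimeSpectrum.ext hp)
      · exact Or.inr (PrimeSpectrum.ext (IsLocalRing.eq_maximalIdeal (p.2.isMaximal hp)))
    have hclosedW : ∀ a : O.toScheme, a.1 ∈ ZB → (a ∈ W ↔ h a.1 = closedPoint B) := by
      intro a ha
      refine ⟨fun haW => ?_, fun hc' => hW0 hc'⟩
      rcases htwo (h a.1) with hg1 | hg1
      · exfalso
        have hpre : _root_.IsPreconnected (O.ι ⁻¹' (ZB ∩ h ⁻¹' {genericPoint (Spec (CommRingCat.of B))})) :=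
          (O.ι.isOpenEmbedding.isInducing.isPreconnected_image).1 (by
            rw [Set.image_preimage_eq_of_subset (fun b hb => by
              rw [Scheme.Opens.range_ι]; exact hZO hb.1)]
            exact hgen)
        exact hne (hpre.subset_isClopen hW ⟨a, ⟨ha, hg1⟩, haW⟩ ⟨hx'Z, hx'⟩)
      · exact hg1
    obtain ⟨V', hV'o, hV'⟩ := h3 _ g' {closedPoint B}
      (by
        rintro _ rfl
        obtain ⟨xz, hxz, hxy, -⟩ := (h1 y specializes_rfl).1
        exact ⟨xz, hxz, hxy.trans hg'.symm⟩)
      ⟨O.ι '' W, O.ι.isOpenEmbedding.isOpenMap _ hW.2, by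
        ext a
        constructor
        · rintro ⟨⟨b, hb, rfl⟩, ha⟩
          exact ⟨(hclosedW b ha).1 hb, ha⟩
        · rintro ⟨ha', ha⟩
          exact ⟨⟨⟨a, hZO ha⟩, (hclosedW ⟨a, hZO ha⟩ ha).2 ha', rfl⟩, ha⟩⟩
    have hgV : genericPoint (Spec (CommRingCat.of B)) ∈ V' :=
      (genericPoint_specializes (closedPoint B : Spec (CommRingCat.of B))).mem_open hV'o (hV'.ge rfl).1
    have hgZ : g' (genericPoint (Spec (CommRingCat.of B))) ∈ f.base '' Z := by
      refine ⟨pullback.fst f g' x', hx'Z, ?_⟩
      rw [← Scheme.Hom.comp_apply, pullback.condition, Scheme.Hom.comp_apply]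
      exact congrArg g' hx'
    have heq : genericPoint (Spec (CommRingCat.of B)) = closedPoint B := hV'.le ⟨hgV, hgZ⟩
    exact hne (hW0 (show (O.ι ≫ h) ⟨x', hZO hx'Z⟩ = closedPoint B from hx'.trans heq))
  obtain ⟨z, hz, hz0⟩ := hsp _ hxW
  have hzZ : z.1 ∈ ZB := (hO0 z.1 hz0).1 z.2
  let m : pullback f g' ⟶ pullback f g :=
    pullback.lift (pullback.fst _ _) (h ≫ q) (by rw [pullback.condition, Category.assoc])
  let σ : Spec (CommRingCat.of (FractionRing A)) ⟶ pullback f g := pullback.lift x0 alg hxg
  have hm : σ' ≫ m = qK ≫ σ := pullback.hom_ext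
    (by simp only [σ', σ, m, Category.assoc, pullback.lift_fst])
    (by simp only [σ', σ, m, h, Category.assoc, pullback.lift_snd, pullback.lift_snd_assoc, hq'])
  obtain ⟨s, hs, hsx, hsc⟩ := exists_section_through (pullback.snd f g) σ (pullback.lift_snd _ _ _)
    (m z.1) (by
      have e : σ (closedPoint (FractionRing A)) = m x' := by
        show _ = m (σ' _)
        rw [← Scheme.Hom.comp_apply, hm, Scheme.Hom.comp_apply]
        exact congrArg σ (Subsingleton.elim (α := PrimeSpectrum (FractionRing A)) _ _)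
      exact e ▸ (hz.map O.ι.continuous).map m.continuous)
    (by
      rw [← Scheme.Hom.comp_apply, pullback.lift_snd, Scheme.Hom.comp_apply]
      exact (congrArg q hz0).trans hqc)
  refine ⟨s ≫ pullback.fst f g, ?_, ?_, ?_⟩
  · rw [Category.assoc, pullback.condition, reassoc_of% hs]
  · rw [reassoc_of% hsx, pullback.lift_fst]
  · rw [Scheme.Hom.comp_apply, hsc, ← Scheme.Hom.comp_apply, pullback.lift_fst]
    exact hzZ

end Groth.Agent.H06Proper
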