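import Groth.Agent.H06Proper.DvrPoint
import Groth.Agent.H17.Reduced

/-!
# Closed subsets proper at a point, by sections over discrete valuation rings
-/

set_option autoImplicit false
set_option backward.isDefEq.respectTransparency false
set_option linter.style.haveILetI false

universe u

open CategoryTheory Limits AlgebraicGeometry IsLocalRing TopologicalSpace Topology

namespace Groth.Agent.H06Proper

variable {X Y : Scheme.{u}}

/-- A rational point over the generic point of `Spec A` extends to a section as soon as it lies in a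
closed subset which is proper over a neighbourhood of the image of the closed point. -/
theorem exists_section_of_closure_proper (f : X ⟶ Y) (Z : Set X) (U : Y.Opens)
    (hC : IsClosed ((f ⁻¹ᵁ U).ι.base ⁻¹' closure Z))
    (hP : IsProper ((Scheme.IdealSheafData.vanishingIdeal (X := (f ⁻¹ᵁ U).toScheme)
        (⟨(f ⁻¹ᵁ U).ι.base ⁻¹' closure Z, hC⟩ : TopologicalSpace.Closeds ↥(f ⁻¹ᵁ U))).subschemeι ≫ (f ∣_ U)))
    (A : Type u) [CommRing A] [IsDomain A] [IsDiscreteValuationRing A]
    (g : Spec (CommRingCat.of A) ⟶ Y) (hg : g (closedPoint A) ∈ U) (x' : ↥(pullback f g))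
    (hx : pullback.fst f g x' ∈ closure Z)
    (hgen : pullback.snd f g x' = genericPoint (Spec (CommRingCat.of A)))
    (hbij : Function.Bijective ((pullback.snd f g).residueFieldMap x').hom) :
    ∃ s : Spec (CommRingCat.of A) ⟶ pullback f g, s ≫ pullback.snd f g = 𝟙 _ ∧ x' ∈ Set.range s := by
  let c := (Scheme.IdealSheafData.vanishingIdeal (X := (f ⁻¹ᵁ U).toScheme)
        (⟨(f ⁻¹ᵁ U).ι.base ⁻¹' closure Z, hC⟩ : TopologicalSpace.Closeds ↥(f ⁻¹ᵁ U))).subschemeι
  let alg := Spec.map (CommRingCat.ofHom (algebraMap A (FractionRing A)))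
  haveI : IsIso ((pullback.snd f g).residueFieldMap x') := (ConcreteCategory.isIso_iff_bijective _).mpr hbij
  obtain ⟨σ, hσ, hσx⟩ := exists_lift_point (pullback.snd f g) x' alg
    ((specMap_fractionRing_closedPoint A).trans hgen.symm)
  have hgU : Set.range g ⊆ Set.range U.ι := by
    rw [Scheme.Opens.range_ι]
    rintro _ ⟨a, rfl⟩
    exact ((specializes_closedPoint a).map g.continuous).mem_open U.2 hg
  let gU := IsOpenImmersion.lift U.ι g hgU
  have hσU : Set.range (σ ≫ pullback.fst f g) ⊆ Set.range (f ⁻¹ᵁ U).ι := by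
    rw [Scheme.Opens.range_ι]
    rintro _ ⟨a, rfl⟩
    show f ((σ ≫ pullback.fst f g) a) ∈ U
    rw [← Scheme.Hom.comp_apply, Category.assoc, pullback.condition, reassoc_of% hσ, Scheme.Hom.comp_apply]
    have := hgU ⟨alg a, rfl⟩
    rwa [Scheme.Opens.range_ι] at this
  let a := IsOpenImmersion.lift (f ⁻¹ᵁ U).ι (σ ≫ pullback.fst f g) hσU
  have ha : a (closedPoint (FractionRing A)) ∈ Set.range c := by
    rw [Groth.Agent.H17.range_vanishingIdeal_subschemeι]
    show (f ⁻¹ᵁ U).ι (a (closedPoint (FractionRing A))) ∈ closure Z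
    rw [← Scheme.Hom.comp_apply, IsOpenImmersion.lift_fac, Scheme.Hom.comp_apply, hσx]
    exact hx
  obtain ⟨b, hb⟩ := Groth.Agent.H17.MonoField.exists_lift_of_mem_range c a ha
  obtain ⟨l, hl₁, hl₂⟩ := H11Val.dvrExistence_of_universallyClosed (c ≫ (f ∣_ U)) A b gU (by
    rw [reassoc_of% hb, ← cancel_mono U.ι, Category.assoc, morphismRestrict_ι, Category.assoc,
      IsOpenImmersion.lift_fac_assoc, IsOpenImmersion.lift_fac, Category.assoc, pullback.condition,
      reassoc_of% hσ])
  refine ⟨pullback.lift (l ≫ c ≫ (f ⁻¹ᵁ U).ι) (𝟙 _) ?_, pullback.lift_snd _ _ _, ?_⟩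
  · rw [Category.id_comp, Category.assoc, Category.assoc, ← morphismRestrict_ι, reassoc_of% hl₁,
      IsOpenImmersion.lift_fac]
  · refine ⟨alg (closedPoint (FractionRing A)), ?_⟩
    have e : alg ≫ pullback.lift (l ≫ c ≫ (f ⁻¹ᵁ U).ι) (𝟙 _)
        (by rw [Category.id_comp, Category.assoc, Category.assoc, ← morphismRestrict_ι, reassoc_of% hl₁,
          IsOpenImmersion.lift_fac]) = σ := pullback.hom_ext
      (by rw [Category.assoc, pullback.lift_fst, reassoc_of% hl₂, reassoc_of% hb, IsOpenImmersion.lift_fac])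
      (by rw [Category.assoc, pullback.lift_snd, Category.comp_id, hσ])
    rw [← Scheme.Hom.comp_apply, e, hσx]

theorem genericPoints_map_mem (Z : Set X)
    (hZ : ∀ z ∈ closure Z, (∀ z' ∈ closure Z, z ∈ closure {z'} → z' = z) → z ∈ Z)
    {C : Scheme.{u}} (i : C ⟶ X) (hi : IsEmbedding i) (hr : Set.range i = closure Z) {η : C}
    (hη : η ∈ genericPoints C) : i η ∈ Z := by
  refine hZ _ (hr ▸ ⟨η, rfl⟩) fun z' hz' hs => ?_
  rw [← hr] at hz'
  obtain ⟨c, rfl⟩ := hz'
  rw [H8Props.mem_genericPoints_iff] at hη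
  exact congrArg i (hη c (hi.isInducing.specializes_iff.1 (specializes_iff_mem_closure.2 hs)))

/-- A closure is proper at `y` if rational points over generic points of discrete valuation rings centred
at `y` extend to sections. -/
theorem exists_closure_proper_of_sections [IsLocallyNoetherian Y] (f : X ⟶ Y) [IsSeparated f]
    [LocallyOfFiniteType f] [QuasiCompact f] (Z : Set X)
    (hZ : ∀ z ∈ closure Z, (∀ z' ∈ closure Z, z ∈ closure {z'} → z' = z) → z ∈ Z) (y : Y)
    (h : ∀ (A : Type u) [CommRing A] [IsDomain A] [IsDiscreteValuationRing A]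
        (g : Spec (CommRingCat.of A) ⟶ Y), g (closedPoint A) = y →
        ∀ x' : ↥(pullback f g), pullback.fst f g x' ∈ Z →
          pullback.snd f g x' = genericPoint (Spec (CommRingCat.of A)) →
          Function.Bijective ((pullback.snd f g).residueFieldMap x').hom →
          ∃ s : Spec (CommRingCat.of A) ⟶ pullback f g, s ≫ pullback.snd f g = 𝟙 _ ∧ x' ∈ Set.range s) :
    ∃ U : Y.Opens, y ∈ U ∧ ∃ hC : IsClosed ((f ⁻¹ᵁ U).ι.base ⁻¹' closure Z),
      IsProper ((Scheme.IdealSheafData.vanishingIdeal (X := (f ⁻¹ᵁ U).toScheme)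
        (⟨(f ⁻¹ᵁ U).ι.base ⁻¹' closure Z, hC⟩ : TopologicalSpace.Closeds ↥(f ⁻¹ᵁ U))).subschemeι ≫ (f ∣_ U)) := by
  haveI : IsLocallyNoetherian X := LocallyOfFiniteType.isLocallyNoetherian f
  let I := Scheme.IdealSheafData.vanishingIdeal (⟨closure Z, isClosed_closure⟩ : Closeds X)
  let i := I.subschemeι
  haveI : AlgebraicGeometry.IsReduced I.subscheme := Groth.Agent.H17.isReduced_vanishingIdeal_subscheme _
  have hr : Set.range i = closure Z := Groth.Agent.H17.range_vanishingIdeal_subschemeι _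
  have key : DvrLiftsAt (i ≫ f) y := by
    intro A _ _ _ x g hg hx hxg
    let alg := Spec.map (CommRingCat.ofHom (algebraMap A (FractionRing A)))
    let σ : Spec (CommRingCat.of (FractionRing A)) ⟶ pullback f g :=
      pullback.lift (x ≫ i) alg (by rw [Category.assoc, hxg])
    have hσ : σ ≫ pullback.snd f g = alg := pullback.lift_snd _ _ _
    haveI : Mono (σ ≫ pullback.snd f g) := by rw [hσ]; infer_instance
    haveI hiso := isIso_residueFieldMap_of_comp_mono σ (pullback.snd f g) (closedPoint (FractionRing A))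
    have hgenσ : pullback.snd f g (σ (closedPoint (FractionRing A))) =
        genericPoint (Spec (CommRingCat.of A)) := by
      rw [← Scheme.Hom.comp_apply, hσ]
      exact specMap_fractionRing_closedPoint A
    obtain ⟨s, hs, a, ha⟩ := h A g hg (σ (closedPoint (FractionRing A)))
      (by
        rw [← Scheme.Hom.comp_apply, pullback.lift_fst, Scheme.Hom.comp_apply]
        exact genericPoints_map_mem Z hZ i i.isEmbedding hr hx)
      hgenσ (ConcreteCategory.bijective_of_isIso _)
    have hagen : a = genericPoint (Spec (CommRingCat.of A)) := by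
      have := congrArg (pullback.snd f g) ha
      rwa [← Scheme.Hom.comp_apply, hs, hgenσ] at this
    have hpt : (alg ≫ s) (closedPoint (FractionRing A)) = σ (closedPoint (FractionRing A)) := by
      rw [Scheme.Hom.comp_apply, ← ha, hagen]
      exact congrArg s (specMap_fractionRing_closedPoint A)
    have hσs : σ = alg ≫ s := point_ext (pullback.snd f g) hpt.symm
      (by rw [hσ, Category.assoc, hs, Category.comp_id])
    obtain ⟨l, hl₁, hl₂⟩ := H11Val.dvrExistence_of_universallyClosed i A x (s ≫ pullback.fst f g) (by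
      rw [← Category.assoc, ← hσs, pullback.lift_fst])
    refine ⟨l, ?_, hl₂⟩
    rw [reassoc_of% hl₁, pullback.condition, reassoc_of% hs]
  obtain ⟨U, hyU, hP⟩ := exists_isProper_restrict (i ≫ f) y key
  refine ⟨U, hyU, isClosed_closure.preimage (f ⁻¹ᵁ U).ι.continuous, ?_⟩
  rw [morphismRestrict_comp] at hP
  haveI := Groth.Agent.H17.isReduced_vanishingIdeal_subscheme (X := (f ⁻¹ᵁ U).toScheme)
    (⟨(f ⁻¹ᵁ U).ι.base ⁻¹' closure Z, isClosed_closure.preimage (f ⁻¹ᵁ U).ι.continuous⟩ :
      Closeds ↥(f ⁻¹ᵁ U))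
  haveI : AlgebraicGeometry.IsReduced (i ⁻¹ᵁ (f ⁻¹ᵁ U)).toScheme := isReduced_of_isOpenImmersion (Scheme.Opens.ι _)
  haveI : IsClosedImmersion (i ∣_ (f ⁻¹ᵁ U)) := IsZariskiLocalAtTarget.restrict (inferInstance : IsClosedImmersion i) _
  obtain ⟨e, he⟩ := Groth.Agent.H17.exists_iso_of_range_eq
    (Scheme.IdealSheafData.vanishingIdeal (X := (f ⁻¹ᵁ U).toScheme) (⟨(f ⁻¹ᵁ U).ι.base ⁻¹' closure Z,
      isClosed_closure.preimage (f ⁻¹ᵁ U).ι.continuous⟩ : Closeds ↥(f ⁻¹ᵁ U))).subschemeι
    (i ∣_ (f ⁻¹ᵁ U)) (by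
      rw [Groth.Agent.H17.range_vanishingIdeal_subschemeι, morphismRestrict_base]
      refine Eq.trans ?_ (Set.range_restrictPreimage _ _).symm
      rw [hr]
      rfl)
  haveI := hP
  rw [← he, Category.assoc]
  infer_instance

end Groth.Agent.H06Proper
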