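import Groth.Agent.H06Proper.DvrPoint
import Groth.Agent.H11Val.Dominating

/-!
# Properness near a point by discrete valuation rings of the function field dominating the point
-/

set_option autoImplicit false
set_option backward.isDefEq.respectTransparency false
set_option linter.style.haveILetI false

universe u

open CategoryTheory Limits AlgebraicGeometry IsLocalRing TopologicalSpace Topology

namespace Groth.Agent.H06Proper

/-- A valuation subring of a subfield cut out by a discrete valuation ring is Noetherian. -/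
theorem isNoetherianRing_comap {K L : Type u} [Field K] [Field L] (φ : K →+* L) {A : Type u} [CommRing A]
    [IsDomain A] [IsPrincipalIdealRing A] (ι : A →+* L) (hι : Function.Injective ι)
    (A' : ValuationSubring K) (hA' : ∀ k, k ∈ A' ↔ φ k ∈ ι.range) (τ : A' →+* A)
    (hτ : ∀ a, ι (τ a) = φ a.1) : IsNoetherianRing A' := by
  have key : ∀ I : Ideal A', (I.map τ).comap τ = I := by
    intro I
    refine le_antisymm ?_ Ideal.le_comap_map
    intro x hx
    have hP : ∀ z ∈ I.map τ, ∃ a ∈ I, τ a ∣ z := by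
      intro z hz
      refine Submodule.span_induction (p := fun z _ => ∃ a ∈ I, τ a ∣ z) ?_ ⟨0, I.zero_mem, by simp⟩ ?_ ?_ hz
      · rintro _ ⟨a, ha, rfl⟩
        exact ⟨a, ha, dvd_rfl⟩
      · rintro z w - - ⟨a, ha, haz⟩ ⟨b, hb, hbw⟩
        rcases ValuationRing.dvd_total a b with hab | hab
        · exact ⟨a, ha, dvd_add haz ((map_dvd τ hab).trans hbw)⟩
        · exact ⟨b, hb, dvd_add ((map_dvd τ hab).trans haz) hbw⟩
      · rintro c z - ⟨a, ha, haz⟩
        exact ⟨a, ha, haz.mul_left c⟩
    obtain ⟨a, ha, c, hc⟩ := hP _ hx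
    have h1 : φ x.1 = φ a.1 * ι c := by rw [← hτ, ← hτ, hc, map_mul]
    rcases eq_or_ne a.1 0 with h0 | h0
    · have : x = 0 := by
        refine Subtype.ext ?_
        rw [h0, map_zero, zero_mul] at h1
        exact φ.injective (h1.trans (map_zero φ).symm)
      rw [this]
      exact I.zero_mem
    · have hmem : x.1 / a.1 ∈ A' := by
        rw [hA']
        refine ⟨c, ?_⟩
        rw [map_div₀, h1]
        field_simp [(map_ne_zero φ).2 h0]
      have : x = a * ⟨x.1 / a.1, hmem⟩ := Subtype.ext (by simp [mul_div_cancel₀ _ h0])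
      rw [this]
      exact I.mul_mem_right _ ha
  have : StrictMono (fun I : Ideal A' => I.map τ) :=
    Monotone.strictMono_of_injective (fun _ _ h => Ideal.map_mono h)
      (fun I J h => by rw [← key I, ← key J]; exact congrArg (Ideal.comap τ) h)
  exact isNoetherian_iff'.2 this.wellFoundedGT

variable {X Y : Scheme.{u}}

/-- Extensions from the function field to discrete valuation rings centred at `y`. -/
theorem dvrLiftsAt_of_dominating [IsIntegral X] (f : X ⟶ Y) (y : Y) (hξ : f (genericPoint X) ⤳ y)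
    (h : ∀ A : ValuationSubring X.functionField, IsDiscreteValuationRing A →
        (∀ r : Y.presheaf.stalk y, A.valuation ((Y.presheaf.stalkSpecializes hξ ≫ f.stalkMap (genericPoint X)) r) ≤ 1) →
        (∀ r ∈ IsLocalRing.maximalIdeal (Y.presheaf.stalk y),
            A.valuation ((Y.presheaf.stalkSpecializes hξ ≫ f.stalkMap (genericPoint X)) r) < 1) →
        ∃ x : X, f x = y ∧
          (∀ r : X.presheaf.stalk x, A.valuation (X.presheaf.stalkSpecializes (genericPoint_specializes x) r) ≤ 1) ∧
          (∀ r ∈ IsLocalRing.maximalIdeal (X.presheaf.stalk x),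
            A.valuation (X.presheaf.stalkSpecializes (genericPoint_specializes x) r) < 1)) :
    DvrLiftsAt f y := by
  intro A _ _ _ x0 g hg hx hxg
  subst hg
  have hpt : x0 (closedPoint (FractionRing A)) = genericPoint X :=
    ((H8Props.mem_genericPoints_iff.1 hx) _ (genericPoint_specializes _)).symm
  obtain ⟨φ, hφ⟩ : ∃ φ : X.presheaf.stalk (genericPoint X) ⟶ CommRingCat.of (FractionRing A),
      x0 = Spec.map φ ≫ X.fromSpecStalk _ := by
    rw [← hpt]
    exact ⟨_, (Scheme.Spec_stalkClosedPointTo_fromSpecStalk x0).symm⟩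
  let ι := algebraMap A (FractionRing A)
  have hι : Function.Injective ι := IsFractionRing.injective _ _
  let V : ValuationSubring (FractionRing A) :=
    { toSubring := ι.range
      mem_or_inv_mem' := fun x => ValuationRing.isInteger_or_isInteger A x }
  let φ' : X.functionField →+* FractionRing A := φ.hom
  let A' : ValuationSubring X.functionField := V.comap φ'
  let τ : A' →+* A := (RingEquiv.ofBijective ι.rangeRestrict
    ⟨fun a b e => hι (congrArg Subtype.val e), ι.rangeRestrict_surjective⟩).symm.toRingHom.comp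
      ((φ'.comp A'.subtype).codRestrict ι.range fun a => a.2)
  have hτ : ∀ a, ι (τ a) = φ' a.1 := fun a =>
    congrArg Subtype.val ((RingEquiv.ofBijective ι.rangeRestrict
      ⟨fun a b e => hι (congrArg Subtype.val e), ι.rangeRestrict_surjective⟩).apply_symm_apply
      ((φ'.comp A'.subtype).codRestrict ι.range (fun a => a.2) a))
  have hloc : ∀ a : A', IsUnit (τ a) → IsUnit a := by
    intro a ha
    obtain ⟨u, hu⟩ := ha
    have h0 : a.1 ≠ 0 := by
      intro e
      have : τ a = 0 := hι (by rw [hτ, e, map_zero, map_zero])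
      exact u.ne_zero (hu.trans this)
    have hmem : a.1⁻¹ ∈ A' := by
      show φ' a.1⁻¹ ∈ ι.range
      refine ⟨(u⁻¹ : Aˣ), ?_⟩
      rw [map_inv₀, ← hτ, ← hu, map_units_inv]
    exact IsUnit.of_mul_eq_one ⟨a.1⁻¹, hmem⟩ (Subtype.ext (mul_inv_cancel₀ h0))
  let θ := Y.presheaf.stalkSpecializes hξ ≫ f.stalkMap (genericPoint X)
  let ψ := Scheme.stalkClosedPointTo g
  have hψ : ψ ≫ CommRingCat.ofHom ι = θ ≫ φ := by
    have h1 := hxg
    rw [hφ, ← Scheme.Spec_stalkClosedPointTo_fromSpecStalk g, Category.assoc,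
      ← Scheme.SpecMap_stalkMap_fromSpecStalk, ← Scheme.SpecMap_stalkSpecializes_fromSpecStalk hξ,
      ← Spec.map_comp_assoc, ← Spec.map_comp_assoc, ← Spec.map_comp_assoc, cancel_mono, Spec.map_inj] at h1
    rw [← h1]
    simp [θ, ι]
  have hmem : ∀ r, θ r ∈ A' := fun r => ⟨ψ r, congrArg (fun t => t.hom r) hψ⟩
  have hmax : ∀ r ∈ maximalIdeal (Y.presheaf.stalk (g (closedPoint A))), A'.valuation (θ r) < 1 := by
    intro r hr
    refine (A'.valuation_lt_one_iff ⟨θ r, hmem r⟩).1 ((mem_maximalIdeal _).2 fun hu => ?_)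
    have h1 : τ ⟨θ r, hmem r⟩ = ψ r := hι ((hτ _).trans (congrArg (fun t => t.hom r) hψ).symm)
    refine (mem_maximalIdeal _).1 hr (isUnit_of_map_unit ψ.hom r ?_)
    show IsUnit (ψ r)
    rw [← h1]
    exact hu.map τ
  obtain ⟨x, hxy, hx1, hx2⟩ : ∃ x : X, f x = g (closedPoint A) ∧
      (∀ r : X.presheaf.stalk x, A'.valuation (X.presheaf.stalkSpecializes (genericPoint_specializes x) r) ≤ 1) ∧
      (∀ r ∈ IsLocalRing.maximalIdeal (X.presheaf.stalk x),
        A'.valuation (X.presheaf.stalkSpecializes (genericPoint_specializes x) r) < 1) := by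
    by_cases htop : ∀ k, k ∈ A'
    · refine ⟨genericPoint X, ?_, fun r => (A'.valuation_le_one_iff _).2 (htop _), fun r hr => ?_⟩
      · have hθ : IsLocalHom θ.hom := by
          refine ⟨fun r hr => ?_⟩
          by_contra hnu
          have hlt := hmax r ((mem_maximalIdeal _).2 hnu)
          have h2 : IsUnit (⟨θ r, hmem r⟩ : A') :=
            IsUnit.of_mul_eq_one ⟨(θ r)⁻¹, htop _⟩ (Subtype.ext (mul_inv_cancel₀ (show (θ r : X.functionField) ≠ 0 from
              IsUnit.ne_zero hr)))
          exact (mem_maximalIdeal _).1 ((A'.valuation_lt_one_iff ⟨θ r, hmem r⟩).2 hlt) h2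
        have e : (Spec.map θ ≫ Y.fromSpecStalk (g (closedPoint A))) =
            X.fromSpecStalk (genericPoint X) ≫ f := by
          rw [Spec.map_comp, Category.assoc, Scheme.SpecMap_stalkSpecializes_fromSpecStalk hξ,
            Scheme.SpecMap_stalkMap_fromSpecStalk]
        have e' := congrArg (fun m => m (closedPoint (X.presheaf.stalk (genericPoint X)))) e
        simp only [Scheme.Hom.comp_apply, Scheme.fromSpecStalk_closedPoint] at e'
        rw [← e']
        have : Spec.map θ (closedPoint (X.presheaf.stalk (genericPoint X))) =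
            closedPoint (Y.presheaf.stalk (g (closedPoint A))) := comap_closedPoint θ.hom
        rw [this, Scheme.fromSpecStalk_closedPoint]
      · have hr0 : (r : X.functionField) = 0 := by
          by_contra h0
          exact (mem_maximalIdeal _).1 hr (IsUnit.mk0 (r : X.functionField) h0)
        rw [show r = 0 from hr0, map_zero, map_zero]
        exact zero_lt_one
    · push_neg at htop
      obtain ⟨k, hk⟩ := htop
      have hk0 : k ≠ 0 := fun e => hk (e ▸ A'.zero_mem)
      have hkinv : k⁻¹ ∈ A' := (A'.mem_or_inv_mem k).resolve_left hk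
      haveI : IsNoetherianRing A' := isNoetherianRing_comap φ' ι hι A' (fun k => Iff.rfl) τ hτ
      have hdvr : IsDiscreteValuationRing A' := by
        refine H11Val.isDVR_of_isNoetherianRing A' hkinv (inv_ne_zero hk0) ?_
        refine (A'.valuation_lt_one_iff ⟨k⁻¹, hkinv⟩).1 ((mem_maximalIdeal _).2 fun hu => hk ?_)
        obtain ⟨b, hb⟩ := hu.exists_right_inv
        have hb' : k⁻¹ * b.1 = 1 := congrArg Subtype.val hb
        have : b.1 = k := by
          rw [inv_mul_eq_one₀ hk0] at hb'
          exact hb'.symm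
        exact this ▸ b.2
      exact h A' hdvr (fun r => (A'.valuation_le_one_iff _).2 (hmem r)) hmax
  let ρ : X.presheaf.stalk x ⟶ CommRingCat.of A := CommRingCat.ofHom (τ.comp
    ((X.presheaf.stalkSpecializes (genericPoint_specializes x)).hom.codRestrict A'.toSubring
      fun r => (A'.valuation_le_one_iff _).1 (hx1 r)))
  haveI hρ : IsLocalHom ρ.hom := by
    refine ⟨fun r hr => ?_⟩
    by_contra hnu
    have := hloc _ hr
    exact (mem_maximalIdeal _).1 ((A'.valuation_lt_one_iff _).2 (hx2 r ((mem_maximalIdeal _).2 hnu))) this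
  have hρι : ρ ≫ CommRingCat.ofHom ι = X.presheaf.stalkSpecializes (genericPoint_specializes x) ≫ φ := by
    ext r
    exact hτ _
  have h2 : Spec.map (CommRingCat.ofHom ι) ≫ (Spec.map ρ ≫ X.fromSpecStalk x) = x0 := by
    rw [← Spec.map_comp_assoc, hρι, hφ, Spec.map_comp, Category.assoc,
      Scheme.SpecMap_stalkSpecializes_fromSpecStalk (genericPoint_specializes x)]
  refine ⟨Spec.map ρ ≫ X.fromSpecStalk x, hom_ext_closedPoint ι hι _ _ ?_ ?_, h2⟩
  · rw [Scheme.Hom.comp_apply, Scheme.Hom.comp_apply]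
    rw [show Spec.map ρ (closedPoint A) = closedPoint (X.presheaf.stalk x) from comap_closedPoint ρ.hom,
      Scheme.fromSpecStalk_closedPoint]
    exact hxy
  · rw [← Category.assoc, h2, hxg]

/-- The centre of a dominating valuation ring in a scheme proper over a neighbourhood. -/
theorem exists_center_of_proper [IsIntegral X] (f : X ⟶ Y) (y : Y) (hξ : f (genericPoint X) ⤳ y)
    (U : Y.Opens) (hyU : y ∈ U) (hP : IsProper (f ∣_ U))
    (A : ValuationSubring X.functionField)
    (h1 : ∀ r : Y.presheaf.stalk y, A.valuation ((Y.presheaf.stalkSpecializes hξ ≫ f.stalkMap (genericPoint X)) r) ≤ 1)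
    (h2 : ∀ r ∈ IsLocalRing.maximalIdeal (Y.presheaf.stalk y),
        A.valuation ((Y.presheaf.stalkSpecializes hξ ≫ f.stalkMap (genericPoint X)) r) < 1) :
    ∃ x : X, f x = y ∧
      (∀ r : X.presheaf.stalk x, A.valuation (X.presheaf.stalkSpecializes (genericPoint_specializes x) r) ≤ 1) ∧
      (∀ r ∈ IsLocalRing.maximalIdeal (X.presheaf.stalk x),
        A.valuation (X.presheaf.stalkSpecializes (genericPoint_specializes x) r) < 1) := by
  let θ := Y.presheaf.stalkSpecializes hξ ≫ f.stalkMap (genericPoint X)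
  let ψ : Y.presheaf.stalk y ⟶ CommRingCat.of A := CommRingCat.ofHom
    (θ.hom.codRestrict A.toSubring fun r => (A.valuation_le_one_iff _).1 (h1 r))
  haveI : IsLocalHom ψ.hom := by
    refine ⟨fun r hr => ?_⟩
    by_contra hnu
    exact (mem_maximalIdeal _).1 ((A.valuation_lt_one_iff _).2 (h2 r ((mem_maximalIdeal _).2 hnu))) hr
  let x0 : Spec (CommRingCat.of X.functionField) ⟶ X := X.fromSpecStalk (genericPoint X)
  let g := Spec.map ψ ≫ Y.fromSpecStalk y
  have hg : g (closedPoint A) = y := by
    rw [Scheme.Hom.comp_apply, show Spec.map ψ (closedPoint A) = closedPoint (Y.presheaf.stalk y) from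
      comap_closedPoint ψ.hom, Scheme.fromSpecStalk_closedPoint]
  have hgU : Set.range g ⊆ Set.range U.ι := by
    rw [Scheme.Opens.range_ι]
    rintro _ ⟨a, rfl⟩
    exact ((specializes_closedPoint a).map g.continuous).mem_open U.2 (hg.symm ▸ hyU)
  have hcomp : x0 ≫ f = Spec.map (CommRingCat.ofHom A.subtype) ≫ g := by
    have e : ψ ≫ CommRingCat.ofHom A.subtype = θ := rfl
    show X.fromSpecStalk (genericPoint X) ≫ f = _
    rw [← Spec.map_comp_assoc, e, Spec.map_comp, Category.assoc,
      Scheme.SpecMap_stalkSpecializes_fromSpecStalk hξ, Scheme.SpecMap_stalkMap_fromSpecStalk]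
  have hxU : Set.range x0 ⊆ Set.range (f ⁻¹ᵁ U).ι := by
    rw [Scheme.Opens.range_ι]
    rintro _ ⟨a, rfl⟩
    show f (x0 a) ∈ U
    rw [← Scheme.Hom.comp_apply, hcomp, Scheme.Hom.comp_apply]
    have := hgU ⟨Spec.map (CommRingCat.ofHom A.subtype) a, rfl⟩
    rwa [Scheme.Opens.range_ι] at this
  have hex : ValuativeCriterion.Existence (f ∣_ U) := by
    have := (inferInstance : UniversallyClosed (f ∣_ U))
    rw [UniversallyClosed.eq_valuativeCriterion] at this
    exact this.1
  let S : ValuativeCommSq (f ∣_ U) :=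
    { R := A, K := X.functionField, i₁ := IsOpenImmersion.lift (f ⁻¹ᵁ U).ι x0 hxU,
      i₂ := IsOpenImmersion.lift U.ι g hgU
      commSq := ⟨by
        rw [← cancel_mono U.ι, Category.assoc, morphismRestrict_ι, Category.assoc, IsOpenImmersion.lift_fac_assoc,
          IsOpenImmersion.lift_fac, hcomp]
        rfl⟩ }
  obtain ⟨⟨l0, hl1, hl2⟩⟩ := (hex S).exists_lift
  let l := l0 ≫ (f ⁻¹ᵁ U).ι
  have hl : Spec.map (CommRingCat.ofHom A.subtype) ≫ l = X.fromSpecStalk (genericPoint X) := by
    show Spec.map (CommRingCat.ofHom A.subtype) ≫ l0 ≫ (f ⁻¹ᵁ U).ι = x0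
    rw [← Category.assoc, show Spec.map (CommRingCat.ofHom A.subtype) ≫ l0 = _ from hl1]
    exact IsOpenImmersion.lift_fac _ _ _
  have hlf : l ≫ f = g := by
    show (l0 ≫ (f ⁻¹ᵁ U).ι) ≫ f = g
    rw [Category.assoc, ← morphismRestrict_ι, ← Category.assoc, show l0 ≫ (f ∣_ U) = _ from hl2]
    exact IsOpenImmersion.lift_fac _ _ _
  let ρ := Scheme.stalkClosedPointTo l
  have hρ : ρ ≫ CommRingCat.ofHom A.subtype =
      X.presheaf.stalkSpecializes (genericPoint_specializes (l (closedPoint A))) := by
    have e := hl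
    rw [← Scheme.Spec_stalkClosedPointTo_fromSpecStalk l, ← Spec.map_comp_assoc,
      ← Scheme.SpecMap_stalkSpecializes_fromSpecStalk (genericPoint_specializes (l (closedPoint A))),
      cancel_mono, Spec.map_inj] at e
    exact e
  refine ⟨l (closedPoint A), by rw [← Scheme.Hom.comp_apply, hlf, hg], fun r => ?_, fun r hr => ?_⟩
  · rw [← congrArg (fun t => t.hom r) hρ]
    exact (A.valuation_le_one_iff _).2 (ρ r).2
  · rw [← congrArg (fun t => t.hom r) hρ]
    refine (A.valuation_lt_one_iff (ρ r)).1 ((mem_maximalIdeal _).2 fun hu => ?_)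
    exact (mem_maximalIdeal _).1 hr (isUnit_of_map_unit ρ.hom r hu)

end Groth.Agent.H06Proper
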