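import Groth.Agent.H06Proper.KPoint
import Groth.Agent.H11Val.Criteria
import Groth.Agent.H8Props.Generic
import Groth.Agent.LeadChow.Dense

/-!
# Properness over a neighbourhood of a point, by discrete valuation rings centred at the point
-/

set_option autoImplicit false
set_option backward.isDefEq.respectTransparency false
set_option linter.style.haveILetI false

universe u

open CategoryTheory Limits AlgebraicGeometry IsLocalRing TopologicalSpace Topology

namespace Groth.Agent.H06Proper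

/-- Existence of extensions for discrete valuation rings with closed point over `y` and generic point
over a generic point of the source. -/
def DvrLiftsAt {X Y : Scheme.{u}} (f : X ⟶ Y) (y : Y) : Prop :=
  ∀ (A : Type u) [CommRing A] [IsDomain A] [IsDiscreteValuationRing A]
    (x : Spec (CommRingCat.of (FractionRing A)) ⟶ X) (g : Spec (CommRingCat.of A) ⟶ Y),
    g (closedPoint A) = y → x (closedPoint (FractionRing A)) ∈ genericPoints X →
    x ≫ f = Spec.map (CommRingCat.ofHom (algebraMap A (FractionRing A))) ≫ g →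
      ∃ l : Spec (CommRingCat.of A) ⟶ X, l ≫ f = g ∧
        Spec.map (CommRingCat.ofHom (algebraMap A (FractionRing A))) ≫ l = x

theorem genericPoints_of_openImmersion {W X : Scheme.{u}} (i : W ⟶ X) [IsOpenImmersion i] {η : W}
    (hη : η ∈ genericPoints W) : i η ∈ genericPoints X := by
  rw [H8Props.mem_genericPoints_iff] at hη ⊢
  intro y hy
  obtain ⟨y', rfl⟩ := hy.mem_open i.isOpenEmbedding.isOpen_range ⟨η, rfl⟩
  exact congrArg i (hη y' (i.isOpenEmbedding.isInducing.specializes_iff.1 hy))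

theorem DvrLiftsAt.restrict {X Y : Scheme.{u}} {f : X ⟶ Y} (V : Y.Opens) (y : V.toScheme)
    (h : DvrLiftsAt f y.1) : DvrLiftsAt (f ∣_ V) y := by
  intro A _ _ _ x g hg hx hxg
  obtain ⟨l, hl₁, hl₂⟩ := h A (x ≫ (f ⁻¹ᵁ V).ι) (g ≫ V.ι) (by rw [Scheme.Hom.comp_apply, hg]; rfl)
    (by rw [Scheme.Hom.comp_apply]; exact genericPoints_of_openImmersion _ hx)
    (by rw [Category.assoc, ← morphismRestrict_ι, reassoc_of% hxg])
  have hr : Set.range l ⊆ Set.range (f ⁻¹ᵁ V).ι := by
    rw [Scheme.Opens.range_ι]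
    rintro _ ⟨a, rfl⟩
    show f (l a) ∈ V
    rw [← Scheme.Hom.comp_apply, hl₁]
    exact (g a).2
  refine ⟨IsOpenImmersion.lift (f ⁻¹ᵁ V).ι l hr, ?_, ?_⟩
  · rw [← cancel_mono V.ι, Category.assoc, morphismRestrict_ι, IsOpenImmersion.lift_fac_assoc, hl₁]
  · rw [← cancel_mono (f ⁻¹ᵁ V).ι, Category.assoc, IsOpenImmersion.lift_fac, hl₂]

theorem exists_isProper_restrict_noetherian {X Y : Scheme.{u}} [IsNoetherian Y] (f : X ⟶ Y) [IsSeparated f]
    [LocallyOfFiniteType f] [QuasiCompact f] (y : Y) (h : DvrLiftsAt f y) :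
    ∃ U : Y.Opens, y ∈ U ∧ IsProper (f ∣_ U) := by
  haveI : IsNoetherian X := LeadChow.isNoetherian_source f
  obtain ⟨N, X', π, j, hj, hjS, hπ, ⟨O, hiso, hdO⟩, -, hsurj, -, -, -⟩ :=
    LeadChow.exists_chow_dense f NoetherianSpace.finite_irreducibleComponents
  let t := CohB1.ProjSpaceOver.toBase N Y
  let P := CohB1.ProjSpaceOver N Y
  haveI : IsProper t := inferInstance
  haveI : IsNoetherian P := LeadChow.isNoetherian_source t
  haveI : IsNoetherian X' := LeadChow.isNoetherian_source π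
  have hlc : IsLocallyClosed (Set.range j) := j.isLocallyClosed_range
  have hBc : IsClosed (closure (Set.range j) \ Set.range j) := by
    have : closure (Set.range j) \ Set.range j = (coborder (Set.range j))ᶜ := by
      simp [coborder, Set.compl_union, Set.diff_eq, Set.inter_comm]
    rw [this]
    exact hlc.isOpen_coborder.isClosed_compl
  have hy : y ∉ t '' (closure (Set.range j) \ Set.range j) := by
    rintro ⟨z, ⟨hz, hzr⟩, hzy⟩
    obtain ⟨η', hη', hηz⟩ : ∃ η' ∈ genericPoints X', j η' ⤳ z := by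
      have hu : Set.range j ⊆ ⋃ η' ∈ genericPoints X', closure {j η'} := by
        rintro _ ⟨x', rfl⟩
        obtain ⟨η', hη', hs⟩ := H8Props.exists_genericPoints_specializes x'
        exact Set.mem_iUnion₂.2 ⟨η', hη', (hs.map j.continuous).mem_closure⟩
      have hfin : (genericPoints X').Finite :=
        genericPoints.finite (NoetherianSpace.finite_irreducibleComponents)
      obtain ⟨η', hη', hs⟩ := Set.mem_iUnion₂.1
        (closure_minimal hu (hfin.isClosed_biUnion fun _ _ => isClosed_closure) hz)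
      exact ⟨η', hη', specializes_iff_mem_closure.2 hs⟩
    have hη'O : η' ∈ π ⁻¹ᵁ O := H8Props.genericPoints_subset_of_dense (π ⁻¹ᵁ O).2 hdO hη'
    have hgen' : π η' ∈ genericPoints X := by
      have h1 : (⟨η', hη'O⟩ : (π ⁻¹ᵁ O).toScheme) ∈ genericPoints (π ⁻¹ᵁ O).toScheme := by
        rw [H8Props.mem_genericPoints_iff] at hη' ⊢
        intro y' hy'
        exact (π ⁻¹ᵁ O).ι.isOpenEmbedding.injective (hη' _ (hy'.map (π ⁻¹ᵁ O).ι.continuous))
      have := genericPoints_of_openImmersion ((π ∣_ O) ≫ O.ι) h1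
      rwa [morphismRestrict_ι, Scheme.Hom.comp_apply] at this
    have hne : z ≠ j η' := fun e => hzr ⟨η', e.symm⟩
    obtain ⟨A, g, hA, hg, hgA⟩ := H11Val.exists_dvr_hom_through j η' z hηz hne
    obtain ⟨e, -, hee⟩ := H11Val.map_fractionRing A (X'.residueField η')
    let x : Spec (CommRingCat.of (FractionRing A)) ⟶ X' := e ≫ X'.fromSpecResidueField η'
    have hxg : x ≫ j = Spec.map (CommRingCat.ofHom (algebraMap A (FractionRing A))) ≫ g := by
      simp only [x, Category.assoc, ← hgA, ← hee]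
      rfl
    obtain ⟨l, hl₁, hl₂⟩ := h A (x ≫ π) (g ≫ t) (by rw [Scheme.Hom.comp_apply, hg]; exact hzy)
      (by
        rw [Scheme.Hom.comp_apply, Scheme.Hom.comp_apply]
        erw [Scheme.fromSpecResidueField_apply]
        exact hgen')
      (by rw [Category.assoc, ← hjS, reassoc_of% hxg])
    obtain ⟨l', hl'₁, hl'₂⟩ := H11Val.dvrExistence_of_universallyClosed π A x l hl₂.symm
    have hge : l' ≫ j = g := H11Val.dvrUniqueness_of_isSeparated t A _ _
      (by rw [Category.assoc, hjS, reassoc_of% hl'₁, hl₁])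
      (by rw [reassoc_of% hl'₂, hxg])
    exact hzr ⟨l' (closedPoint A), by rw [← Scheme.Hom.comp_apply, hge, hg]⟩
  let U : Y.Opens := ⟨(t '' (closure (Set.range j) \ Set.range j))ᶜ, (t.isClosedMap _ hBc).isOpen_compl⟩
  refine ⟨U, hy, ?_⟩
  haveI : IsPreimmersion (j ∣_ (t ⁻¹ᵁ U)) := IsZariskiLocalAtTarget.restrict (inferInstance : IsPreimmersion j) _
  haveI : IsClosedImmersion (j ∣_ (t ⁻¹ᵁ U)) := by
    refine .of_isPreimmersion _ ?_
    have : Set.range (j ∣_ (t ⁻¹ᵁ U)) = (t ⁻¹ᵁ U).ι ⁻¹' Set.range j := by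
      rw [morphismRestrict_base]
      exact Set.range_restrictPreimage _ _
    rw [this]
    have : (t ⁻¹ᵁ U).ι ⁻¹' Set.range j = (t ⁻¹ᵁ U).ι ⁻¹' closure (Set.range j) := by
      refine (Set.preimage_mono subset_closure).antisymm fun a ha => ?_
      by_contra hr
      exact a.2 ⟨_, ⟨ha, hr⟩, rfl⟩
    rw [this]
    exact isClosed_closure.preimage (t ⁻¹ᵁ U).ι.continuous
  haveI : IsProper (t ∣_ U) := IsZariskiLocalAtTarget.restrict ‹_› _
  haveI : IsProper ((j ≫ t) ∣_ U) := by rw [morphismRestrict_comp]; infer_instance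
  haveI : IsProper ((π ≫ f) ∣_ U) := by rw [← hjS]; infer_instance
  haveI : Surjective (π ∣_ (f ⁻¹ᵁ U)) := IsZariskiLocalAtTarget.restrict hsurj _
  haveI : IsProper (π ∣_ (f ⁻¹ᵁ U) ≫ f ∣_ U) := by rw [← morphismRestrict_comp]; infer_instance
  haveI : UniversallyClosed (f ∣_ U) :=
    UniversallyClosed.of_comp_surjective (f := π ∣_ (f ⁻¹ᵁ U)) (g := f ∣_ U)
  haveI : IsSeparated (f ∣_ U) := IsZariskiLocalAtTarget.restrict ‹_› _
  haveI : LocallyOfFiniteType (f ∣_ U) := IsZariskiLocalAtTarget.restrict ‹_› _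
  exact { }

/-- If discrete valuation rings centred at `y`, with generic point at a generic point of the source,
extend, then the morphism is proper over a neighbourhood of `y`. -/
theorem exists_isProper_restrict {X Y : Scheme.{u}} [IsLocallyNoetherian Y] (f : X ⟶ Y) [IsSeparated f]
    [LocallyOfFiniteType f] [QuasiCompact f] (y : Y) (h : DvrLiftsAt f y) :
    ∃ U : Y.Opens, y ∈ U ∧ IsProper (f ∣_ U) := by
  obtain ⟨V, hV, hyV, -⟩ := exists_isAffineOpen_mem_and_subset (x := y) (U := ⊤) trivial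
  haveI : CompactSpace V.toScheme := isCompact_iff_compactSpace.mp hV.isCompact
  haveI : IsLocallyNoetherian V.toScheme := LocallyOfFiniteType.isLocallyNoetherian V.ι
  haveI : IsNoetherian V.toScheme := { }
  haveI : IsSeparated (f ∣_ V) := IsZariskiLocalAtTarget.restrict ‹_› _
  haveI : LocallyOfFiniteType (f ∣_ V) := IsZariskiLocalAtTarget.restrict ‹_› _
  haveI : QuasiCompact (f ∣_ V) := IsZariskiLocalAtTarget.restrict ‹_› _
  obtain ⟨U, hyU, hU⟩ := exists_isProper_restrict_noetherian (f ∣_ V) ⟨y, hyV⟩ (h.restrict V ⟨y, hyV⟩)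
  exact ⟨V.ι ''ᵁ U, ⟨⟨y, hyV⟩, hyU, rfl⟩,
    ((MorphismProperty.arrow_mk_iso_iff @IsProper) (morphismRestrictRestrict f V U)).1 hU⟩

end Groth.Agent.H06Proper
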