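import Groth.Agent.H17.MonoField
import Groth.Agent.H11Val.Point

/-!
# Points with values in fields and in local rings
-/

set_option autoImplicit false
set_option backward.isDefEq.respectTransparency false
set_option linter.style.haveILetI false

universe u

open CategoryTheory AlgebraicGeometry IsLocalRing

namespace Groth.Agent.H06Proper

variable {X Y : Scheme.{u}}

/-- A field valued point which is mapped to a monomorphism is rational. -/
theorem isIso_residueFieldMap_of_comp_mono {K : CommRingCat.{u}} (σ : Spec K ⟶ X) (q : X ⟶ Y)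
    [Mono (σ ≫ q)] (p : Spec K) : IsIso (q.residueFieldMap (σ p)) := by
  haveI := Groth.Agent.H17.MonoField.isIso_residueFieldMap_of_mono (σ ≫ q) p
  have hb : Function.Bijective ((q.residueFieldMap (σ p)).hom) := by
    have h : Function.Bijective (((σ ≫ q).residueFieldMap p).hom) := ConcreteCategory.bijective_of_isIso _
    rw [Scheme.residueFieldMap_comp] at h
    refine ⟨(q.residueFieldMap (σ p)).hom.injective, fun a => ?_⟩
    obtain ⟨b, hb⟩ := h.2 ((σ.residueFieldMap p).hom a)
    exact ⟨b, (σ.residueFieldMap p).hom.injective hb⟩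
  exact (ConcreteCategory.isIso_iff_bijective _).mpr hb

/-- A field valued point lifts through a rational point. -/
theorem exists_lift_point {K : Type u} [Field K] (q : X ⟶ Y) (x : X) [IsIso (q.residueFieldMap x)]
    (b : Spec (CommRingCat.of K) ⟶ Y) (hb : b (closedPoint K) = q x) :
    ∃ σ : Spec (CommRingCat.of K) ⟶ X, σ ≫ q = b ∧ σ (closedPoint K) = x := by
  obtain ⟨⟨y, φ⟩, rfl⟩ := (Scheme.SpecToEquivOfField K Y).symm.surjective b
  obtain rfl : y = q x := by
    simpa [Scheme.SpecToEquivOfField_symm_apply] using hb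
  refine ⟨Spec.map (inv (q.residueFieldMap x) ≫ φ) ≫ X.fromSpecResidueField x, ?_, ?_⟩
  · rw [Scheme.SpecToEquivOfField_symm_apply, Category.assoc, ← Scheme.Hom.SpecMap_residueFieldMap_fromSpecResidueField, ← Spec.map_comp_assoc,
      IsIso.hom_inv_id_assoc]
  · rw [Scheme.Hom.comp_apply, Scheme.fromSpecResidueField_apply]

/-- Two field valued points over a rational point are equal if they are equal downstairs. -/
theorem point_ext {K : Type u} [Field K] (q : X ⟶ Y) {a b : Spec (CommRingCat.of K) ⟶ X}
    (hp : a (closedPoint K) = b (closedPoint K)) [IsIso (q.residueFieldMap (a (closedPoint K)))]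
    (h : a ≫ q = b ≫ q) : a = b := by
  obtain ⟨⟨x, φ⟩, rfl⟩ := (Scheme.SpecToEquivOfField K X).symm.surjective a
  obtain ⟨⟨x', ψ⟩, rfl⟩ := (Scheme.SpecToEquivOfField K X).symm.surjective b
  obtain rfl : x = x' := by
    simpa [Scheme.SpecToEquivOfField_symm_apply] using hp
  haveI : IsIso (q.residueFieldMap x) := by
    have e : (Spec.map φ ≫ X.fromSpecResidueField x) (closedPoint K) = x := by
      rw [Scheme.Hom.comp_apply, Scheme.fromSpecResidueField_apply]
    rw [← e]
    assumption
  simp only [Scheme.SpecToEquivOfField_symm_apply, Category.assoc,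
    ← Scheme.Hom.SpecMap_residueFieldMap_fromSpecResidueField, ← Spec.map_comp_assoc] at h ⊢
  rw [cancel_mono, Spec.map_inj, cancel_epi] at h
  rw [h]

/-- A morphism from the spectrum of a local domain is determined by its closed point and its
restriction to the generic point. -/
theorem hom_ext_closedPoint {A : Type u} [CommRing A] [IsLocalRing A] {K : Type u} [CommRing K]
    (ι : A →+* K) (hι : Function.Injective ι) (g₁ g₂ : Spec (CommRingCat.of A) ⟶ Y)
    (h0 : g₁ (closedPoint A) = g₂ (closedPoint A))
    (h : Spec.map (CommRingCat.ofHom ι) ≫ g₁ = Spec.map (CommRingCat.ofHom ι) ≫ g₂) : g₁ = g₂ := by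
  obtain ⟨ψ, hψ⟩ : ∃ ψ : Y.presheaf.stalk (g₁ (closedPoint A)) ⟶ CommRingCat.of A,
      g₂ = Spec.map ψ ≫ Y.fromSpecStalk _ := by
    rw [h0]
    exact ⟨_, (Scheme.Spec_stalkClosedPointTo_fromSpecStalk g₂).symm⟩
  have h1 := (Scheme.Spec_stalkClosedPointTo_fromSpecStalk g₁).symm
  rw [h1, hψ, ← Spec.map_comp_assoc, ← Spec.map_comp_assoc, cancel_mono, Spec.map_inj] at h
  rw [h1, hψ]
  congr 2
  ext a
  exact hι (congrArg (fun t => t.hom a) h)

/-- The image of the generic point of the spectrum of a domain. -/
theorem specMap_fractionRing_closedPoint (A : Type u) [CommRing A] [IsDomain A] :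
    Spec.map (CommRingCat.ofHom (algebraMap A (FractionRing A))) (closedPoint (FractionRing A)) =
      genericPoint (Spec (CommRingCat.of A)) := by
  rw [genericPoint_eq_bot_of_affine]
  refine PrimeSpectrum.ext ?_
  show (closedPoint (FractionRing A)).asIdeal.comap (algebraMap A (FractionRing A)) = ⊥
  rw [show (closedPoint (FractionRing A)).asIdeal = ⊥ from IsLocalRing.maximalIdeal_eq_bot]
  exact Ideal.comap_bot_of_injective _ (IsFractionRing.injective A _)

instance isPreimmersion_specMap_fractionRing (A : Type u) [CommRing A] [IsDomain A] :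
    IsPreimmersion (Spec.map (CommRingCat.ofHom (algebraMap A (FractionRing A)))) :=
  IsPreimmersion.of_isLocalization (nonZeroDivisors A)

end Groth.Agent.H06Proper
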